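import Cfsg.Agent.SuzThree.Normalizer

/-!
The quotient of the normaliser by the abelian group is `M11`.
-/

set_option autoImplicit false
set_option linter.style.haveILetI false

namespace CfsgLib.SuzThree

open CfsgLib.CosetEnum CfsgLib.PresentedOut

noncomputable section

namespace Ctx

variable (C : Ctx)
include C

/-- The normaliser. -/
abbrev NA (_C : Ctx) : Subgroup M := Subgroup.normalizer (A0 : Set M)

theorem exists_act (g : C.NA) (v : V) : ∃ w, fe w = (g : M) * fe v * (g : M)⁻¹ :=
  C.exists_fe (mem_iff_mem_map g.2 (C.fe_mem v))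

/-- The action on coordinates. -/
def T (g : C.NA) (v : V) : V := (C.exists_act g v).choose

theorem fe_T (g : C.NA) (v : V) : fe (C.T g v) = (g : M) * fe v * (g : M)⁻¹ :=
  (C.exists_act g v).choose_spec

theorem T_mul (g h : C.NA) (v : V) : C.T (g * h) v = C.T g (C.T h v) := C.fe_injective (by
  rw [C.fe_T, C.fe_T, C.fe_T, Subgroup.coe_mul]; group)

theorem T_one (v : V) : C.T 1 v = v := C.fe_injective (by rw [C.fe_T]; simp)

/-- The action as a homomorphism of coordinates. -/
def THom (g : C.NA) : V →+ V where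
  toFun := C.T g
  map_zero' := C.fe_injective (by rw [C.fe_T, C.fe_zero, mul_one, mul_inv_cancel])
  map_add' v w := C.fe_injective (by rw [C.fe_add, C.fe_T, C.fe_T, C.fe_T, C.fe_add]; group)

theorem T_neg (g : C.NA) (v : V) : C.T g (-v) = - C.T g v := (C.THom g).map_neg v

theorem exists_line (g : C.NA) (i : Fin 11) :
    ∃ j : Fin 11, C.T g (vec i) = vec j ∨ C.T g (vec i) = - vec j := by
  obtain ⟨p, hp⟩ := C.vec_fixed i
  refine C.fe_fixed (fun h => vec_ne i ?_) (img C.φ ((g : M)⁻¹) p) ?_
  · have h1 := congrArg (C.T g⁻¹) h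
    rw [← C.T_mul, inv_mul_cancel, C.T_one] at h1
    rw [h1]
    exact (C.THom g⁻¹).map_zero
  · rw [C.fe_T, ← img_mul, show (g : M)⁻¹ * ((g : M) * fe (vec i) * (g : M)⁻¹) = fe (vec i) * (g : M)⁻¹ by group,
      img_mul, hp]

/-- The map on lines. -/
def lmap (g : C.NA) (i : Fin 11) : Fin 11 := (C.exists_line g i).choose

theorem lmap_spec (g : C.NA) (i : Fin 11) :
    C.T g (vec i) = vec (C.lmap g i) ∨ C.T g (vec i) = - vec (C.lmap g i) :=
  (C.exists_line g i).choose_spec

theorem lmap_eq {g : C.NA} {i j : Fin 11} (h : C.T g (vec i) = vec j ∨ C.T g (vec i) = - vec j) :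
    C.lmap g i = j := by
  rcases C.lmap_spec g i with e | e <;> rcases h with h | h <;> rw [h] at e
  · exact (vec_distinct _ _ (Or.inl e)).symm
  · exact (vec_distinct _ _ (Or.inr (neg_eq_iff_eq_neg.1 e))).symm
  · exact (vec_distinct _ _ (Or.inr e)).symm
  · exact (vec_distinct _ _ (Or.inl (neg_injective e))).symm

theorem lmap_one (i : Fin 11) : C.lmap 1 i = i := C.lmap_eq (Or.inl (C.T_one _))

theorem lmap_mul (g h : C.NA) (i : Fin 11) : C.lmap (g * h) i = C.lmap g (C.lmap h i) := by
  refine C.lmap_eq ?_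
  rw [C.T_mul]
  rcases C.lmap_spec h i with e | e <;> rw [e]
  · exact C.lmap_spec g _
  · rw [C.T_neg]
    rcases C.lmap_spec g (C.lmap h i) with e' | e' <;> rw [e']
    · exact Or.inr rfl
    · exact Or.inl (neg_neg _)

/-- The action on the eleven lines. -/
def perm : C.NA →* Equiv.Perm (Fin 11) where
  toFun g :=
    { toFun := C.lmap g
      invFun := C.lmap g⁻¹
      left_inv := fun i => by rw [← C.lmap_mul, inv_mul_cancel, C.lmap_one]
      right_inv := fun i => by rw [← C.lmap_mul, mul_inv_cancel, C.lmap_one] }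
  map_one' := Equiv.ext C.lmap_one
  map_mul' g h := Equiv.ext (C.lmap_mul g h)

theorem perm_apply (g : C.NA) (i : Fin 11) : C.perm g i = C.lmap g i := rfl

theorem perm_mem_aut (g : C.NA) : C.perm g ∈ Cfsg.setSystemAut Blocks := by
  refine Mathieu.mem_setSystemAut_of_image fun s hs => ⟨?_, fun htop => hs.2 ?_⟩
  · rw [Finset.card_image_of_injective _ (C.perm g).injective, hs.1]
  rw [eq_top_iff]
  have hle : (AddSubgroup.closure (vec '' ((s.image (C.perm g) : Finset (Fin 11)) : Set (Fin 11)))).map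
      (C.THom g⁻¹) ≤ AddSubgroup.closure (vec '' (s : Set (Fin 11))) := by
    rw [AddMonoidHom.map_closure, AddSubgroup.closure_le]
    rintro _ ⟨_, ⟨j, hj, rfl⟩, rfl⟩
    obtain ⟨i, hi, rfl⟩ := Finset.mem_image.1 (Finset.mem_coe.1 hj)
    have hii : C.lmap g⁻¹ (C.perm g i) = i := by
      rw [C.perm_apply, ← C.lmap_mul, inv_mul_cancel, C.lmap_one]
    have hmem : vec i ∈ AddSubgroup.closure (vec '' (s : Set (Fin 11))) :=
      AddSubgroup.subset_closure ⟨i, hi, rfl⟩
    show C.T g⁻¹ (vec (C.perm g i)) ∈ AddSubgroup.closure (vec '' (s : Set (Fin 11)))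
    rcases C.lmap_spec g⁻¹ (C.perm g i) with e | e <;> rw [e, hii]
    · exact hmem
    · exact neg_mem hmem
  intro v _
  refine hle ⟨C.T g v, by rw [htop]; exact AddSubgroup.mem_top _, ?_⟩
  show C.T g⁻¹ (C.T g v) = v
  rw [← C.T_mul, inv_mul_cancel, C.T_one]

theorem ker_perm : C.perm.ker = A0.subgroupOf C.NA := by
  refine le_antisymm (fun g hg => ?_) (fun g hg => ?_)
  · rw [MonoidHom.mem_ker] at hg
    have hfix : ∀ i, ∃ ε : ZMod 3, (ε = 1 ∨ ε = -1) ∧ C.T g (vec i) = ε • vec i := by
      intro i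
      have hi : C.lmap g i = i := by rw [← C.perm_apply, hg]; rfl
      rcases C.lmap_spec g i with e | e <;> rw [hi] at e
      · exact ⟨1, Or.inl rfl, by rw [e, one_smul]⟩
      · exact ⟨-1, Or.inr rfl, by rw [e, neg_one_smul]⟩
    choose ε hε hT using hfix
    have hsmul : ∀ (a : ZMod 3) (v : V), C.T g (a • v) = a • C.T g v := fun a v => by
      rw [show a • v = a.val • v by
        funext k; simp [Pi.smul_apply, nsmul_eq_mul]]
      rw [show a • C.T g v = a.val • C.T g v by
        funext k; simp [Pi.smul_apply, nsmul_eq_mul]]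
      exact (C.THom g).map_nsmul _ _
    have hTv : ∀ (v : V) (k : Fin 5), C.T g v k = ε ⟨k.val, by omega⟩ * v k := by
      intro v k
      have e : C.T g v = ∑ u, v u • C.T g (Pi.single u 1) := by
        conv_lhs => rw [← Finset.univ_sum_single v]
        show C.THom g _ = _
        rw [map_sum]
        refine Finset.sum_congr rfl fun u _ => ?_
        show C.T g _ = _
        rw [← hsmul]
        congr 1
        funext k
        by_cases h : k = u
        · subst h; simp
        · simp [h]
      rw [e, Finset.sum_apply, Finset.sum_eq_single k]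
      · rw [← unit_lines k, hT, unit_lines k]; simp [mul_comm]
      · intro u _ hu
        rw [← unit_lines u, hT, unit_lines u]; simp [hu.symm]
      · intro h; exact absurd (Finset.mem_univ k) h
    have hall : ∀ k : Fin 5, ε ⟨k.val, by omega⟩ = ε 5 := by
      intro k
      have h5 := congrFun (hT 5) k
      rw [hTv, Pi.smul_apply, smul_eq_mul] at h5
      exact mul_right_cancel₀ (full_line k) h5
    have hTeq : ∀ v, C.T g v = ε 5 • v := fun v => funext fun k => by rw [hTv, hall]; rfl
    rcases hε 5 with e | e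
    · rw [Subgroup.mem_subgroupOf, ← C.centralizer_A0, Subgroup.mem_centralizer_iff]
      intro a ha
      obtain ⟨v, rfl⟩ := C.exists_fe ha
      have h1 := C.fe_T g v
      rw [hTeq, e, one_smul] at h1
      exact eq_mul_inv_iff_mul_eq.1 h1
    · refine (C.not_inverts g fun a ha => ?_).elim
      obtain ⟨v, rfl⟩ := C.exists_fe ha
      rw [← C.fe_T, hTeq, e, neg_one_smul, C.fe_neg]
  · rw [MonoidHom.mem_ker]
    refine Equiv.ext fun i => C.lmap_eq (Or.inl (C.fe_injective ?_))
    rw [C.fe_T, mul_inv_eq_iff_eq_mul]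
    rw [Subgroup.mem_subgroupOf, ← C.centralizer_A0, Subgroup.mem_centralizer_iff] at hg
    exact (hg _ (C.fe_mem _)).symm

theorem range_perm : C.perm.range = Cfsg.setSystemAut Blocks := by
  haveI := C.fin
  refine Subgroup.eq_of_le_of_card_ge ?_ ?_
  · rintro _ ⟨g, rfl⟩
    exact C.perm_mem_aut g
  rw [card_aut_Blocks]
  have h := C.perm.ker.card_mul_index
  rw [Subgroup.index_ker, C.ker_perm,
    Nat.card_congr (Subgroup.subgroupOfEquivOfLe (show A0 ≤ C.NA from Subgroup.le_normalizer)).toEquiv, C.card_A0] at h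
  have hd := Nat.le_of_dvd Nat.card_pos C.dvd_normalizer
  rw [← h] at hd
  norm_num at hd ⊢
  omega

theorem quotient_iso : ∃ _ : (A0.subgroupOf C.NA).Normal,
    Cfsg.Spor.IsoM11 (↥C.NA ⧸ A0.subgroupOf C.NA) := by
  haveI hn : (A0.subgroupOf C.NA).Normal := Subgroup.normal_subgroupOf_iff_le_normalizer
    (show A0 ≤ C.NA from Subgroup.le_normalizer) |>.2 le_rfl
  obtain ⟨e⟩ := nonempty_aut_Blocks
  exact ⟨hn, ⟨(QuotientGroup.quotientMulEquivOfEq C.ker_perm.symm).trans
    ((QuotientGroup.quotientKerEquivRange C.perm).trans ((MulEquiv.subgroupCongr C.range_perm).trans e))⟩⟩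

end Ctx

end

end CfsgLib.SuzThree
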