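import Cfsg.Agent.SuzThree.Local
import Cfsg.Agent.SuzThree.Quotient

/-!
The three-local step for a group of Suzuki type isomorphic to the presented Suzuki group.
-/

set_option autoImplicit false
set_option linter.style.haveILetI false

namespace CfsgLib.SuzThree

open CfsgLib.SuzType

theorem three_add : ∀ a : ZMod 3, a + a + a = 0 := by decide

variable {G H : Type*} [Group G] [Group H]

theorem centralizer_map_equiv (φ : G ≃* H) (s : Set G) :
    (Subgroup.centralizer s).map φ.toMonoidHom = Subgroup.centralizer (φ '' s) := by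
  refine le_antisymm (Subgroup.map_centralizer_le_centralizer_image s φ.toMonoidHom) fun h hh => ?_
  refine ⟨φ.symm h, Subgroup.mem_centralizer_iff.2 fun a ha => φ.injective ?_, by simp⟩
  simpa using Subgroup.mem_centralizer_iff.1 hh _ (Set.mem_image_of_mem φ ha)

theorem card_centralizer_equiv (φ : G ≃* H) (a : G) :
    Nat.card (Subgroup.centralizer ({φ a} : Set H)) = Nat.card (Subgroup.centralizer ({a} : Set G)) := by
  rw [← Set.image_singleton, ← centralizer_map_equiv, Subgroup.card_map_of_injective φ.injective]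

/-- Transport of a self-centralising elementary abelian group with normalizer quotient `M11`. -/
theorem transport_local (φ : G ≃* H) {A : Subgroup G} (hc : IsMulCommutative A)
    (hp : ∀ a ∈ A, a ^ 3 = 1) (hself : Subgroup.centralizer (A : Set G) = A)
    (hq : ∃ _ : (A.subgroupOf (Subgroup.normalizer (A : Set G))).Normal,
      Cfsg.Spor.IsoM11 (↥(Subgroup.normalizer (A : Set G)) ⧸ A.subgroupOf (Subgroup.normalizer (A : Set G)))) :
    Cfsg.IsElementaryAbelian 3 (A.map φ.toMonoidHom) ∧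
    Subgroup.centralizer ((A.map φ.toMonoidHom : Subgroup H) : Set H) = A.map φ.toMonoidHom ∧
    ∃ _ : ((A.map φ.toMonoidHom).subgroupOf
        (Subgroup.normalizer ((A.map φ.toMonoidHom : Subgroup H) : Set H))).Normal,
      Cfsg.Spor.IsoM11 (↥(Subgroup.normalizer ((A.map φ.toMonoidHom : Subgroup H) : Set H)) ⧸
        (A.map φ.toMonoidHom).subgroupOf
          (Subgroup.normalizer ((A.map φ.toMonoidHom : Subgroup H) : Set H))) := by
  obtain ⟨hn, ⟨e⟩⟩ := hq
  haveI := hn
  haveI hn' : ((A.map φ.toMonoidHom).subgroupOf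
      (Subgroup.normalizer ((A.map φ.toMonoidHom : Subgroup H) : Set H))).Normal :=
    (Subgroup.normal_subgroupOf_iff_le_normalizer Subgroup.le_normalizer).2 le_rfl
  refine ⟨⟨⟨⟨fun a b => Subtype.ext ?_⟩⟩, ?_⟩, ?_, hn', ?_⟩
  · obtain ⟨a', ha', ea⟩ := a.2
    obtain ⟨b', hb', eb⟩ := b.2
    show (a : H) * b = b * a
    rw [← ea, ← eb, ← map_mul, ← map_mul]
    exact congrArg φ.toMonoidHom (congrArg Subtype.val (hc.is_comm.comm ⟨a', ha'⟩ ⟨b', hb'⟩))
  · rintro _ ⟨a, ha, rfl⟩
    rw [← map_pow, hp a ha, map_one]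
  · rw [Subgroup.coe_map]
    show Subgroup.centralizer (φ '' (A : Set G)) = _
    rw [← centralizer_map_equiv, hself]
  · have hN : (Subgroup.normalizer (A : Set G)).map (φ : G →* H) =
        Subgroup.normalizer ((A.map φ.toMonoidHom : Subgroup H) : Set H) :=
      Subgroup.map_equiv_normalizer_eq A φ
    let ν := (φ.subgroupMap (Subgroup.normalizer (A : Set G))).trans (MulEquiv.subgroupCongr hN)
    have hν : ∀ g, ((ν g : _) : H) = φ g := fun g => rfl
    refine ⟨(QuotientGroup.congr _ _ ν ?_).symm.trans e⟩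
    ext h
    constructor
    · rintro ⟨g, hg, rfl⟩
      exact ⟨(g : G), hg, (hν g).symm⟩
    · rintro ⟨a, ha, hah⟩
      refine ⟨⟨a, Subgroup.le_normalizer ha⟩, ha, Subtype.ext ?_⟩
      exact (hν _).trans hah

variable [Finite G]

theorem three_local (z : G) (hz : orderOf z = 2)
    (Q : Subgroup (Subgroup.centralizer ({z} : Set G))) [Q.Normal]
    (hF : Cfsg.generalizedFittingSubgroup (Subgroup.centralizer ({z} : Set G)) = Q)
    (hQ : Cfsg.IsExtraspecial 2 Q) (hcard : Nat.card Q = 2 ^ 7)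
    (e : (Subgroup.centralizer ({z} : Set G)) ⧸ Q ≃*
      Cfsg.Omega (ZMod 2) (Cfsg.quadFormMinus 2 (ZMod 2) 1 1))
    (hnwc : ∃ g : G, (∃ hq : g * z * g⁻¹ ∈ Subgroup.centralizer ({z} : Set G),
      (⟨g * z * g⁻¹, hq⟩ : Subgroup.centralizer ({z} : Set G)) ∈ Q) ∧ g * z * g⁻¹ ≠ z)
    (X : Subgroup (Subgroup.centralizer ({z} : Set G))) (hX : Nat.card X = 3)
    (hQX : Nat.card ↥⁅Q, X⁆ = 8) (hiso : Cfsg.Spor.IsoSuz G)
    (N : Subgroup G) (hN : N = Subgroup.normalizer
      ((X.map (Subgroup.subtype (Subgroup.centralizer ({z} : Set G))) : Subgroup G) : Set G))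
    (P : Sylow 3 N) :
    ¬ 3 ∣ ((P : Subgroup N).map N.subtype).index ∧
    ∃ A : Subgroup G, A ≤ (P : Subgroup N).map N.subtype ∧
      Cfsg.IsElementaryAbelian 3 A ∧ Nat.card A = 3 ^ 5 ∧ Subgroup.centralizer (A : Set G) = A ∧
      ∃ _ : (A.subgroupOf (Subgroup.normalizer (A : Set G))).Normal,
        Cfsg.Spor.IsoM11 (↥(Subgroup.normalizer (A : Set G)) ⧸
          A.subgroupOf (Subgroup.normalizer (A : Set G))) := by
  classical
  haveI := Fact.mk Nat.prime_two
  haveI : Fact (Nat.Prime 3) := ⟨Nat.prime_three⟩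
  obtain ⟨C⟩ := exists_ctx
  haveI := C.fin
  obtain ⟨θ⟩ : Nonempty (G ≃* M) := hiso
  have hG : Nat.card G = 448345497600 := (Nat.card_congr θ.toEquiv).trans C.card
  have h13 : (Nat.card G).factorization 2 = 13 := by
    rw [hG, show (448345497600 : ℕ) = 2 ^ 13 * 54729675 by norm_num,
      Nat.factorization_mul (by norm_num) (by norm_num), Finsupp.add_apply,
      Nat.Prime.factorization_pow Nat.prime_two, Finsupp.single_eq_same,
      Nat.factorization_eq_zero_of_not_dvd (by norm_num : ¬ 2 ∣ 54729675)]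
  have h7 : (Nat.card G).factorization 3 = 7 := by
    rw [hG, show (448345497600 : ℕ) = 3 ^ 7 * 205004800 by norm_num,
      Nat.factorization_mul (by norm_num) (by norm_num), Finsupp.add_apply,
      Nat.Prime.factorization_pow Nat.prime_three, Finsupp.single_eq_same,
      Nat.factorization_eq_zero_of_not_dvd (by norm_num : ¬ 3 ∣ 205004800)]
  -- the data
  obtain ⟨Q', π, D⟩ := exists_data z hz Q hF hQ hcard e hnwc
  have hQQ : Q' = Q.map (Subgroup.centralizer ({z} : Set G)).subtype := by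
    refine Subgroup.eq_of_le_of_card_ge (le_map_of_normalised hF
      (IsPGroup.of_card (n := 7) (by rw [D.card]; norm_num))
      (fun q hq => Subgroup.mem_centralizer_singleton_iff.2 (D.sub.z_comm hq)) fun c hc => ?_) ?_
    · refine Subgroup.mem_normalizer_iff.2 fun q => ⟨fun hq =>
        D.sub.conj_mem (Subgroup.mem_centralizer_singleton_iff.1 hc) hq, fun hq => ?_⟩
      have := D.sub.conj_mem (Subgroup.mem_centralizer_singleton_iff.1 (inv_mem hc)) hq
      simpa [mul_assoc] using this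
    · rw [Subgroup.card_map_of_injective (Subgroup.subtype_injective _), hcard, D.card]
      norm_num
  obtain ⟨Pf, s, F⟩ := exists_frame D
  -- move `z` to the involution of the model
  obtain ⟨-, -, hz01, hs01, hsz, -⟩ := C.invol_facts
  obtain ⟨g, hg⟩ := isConj_iff.1 (isConj_z_of_dvd D h13 (y := θ.symm z0)
    (fun h => hz01 (θ.symm.injective (h.trans (map_one θ.symm).symm)))
    (by rw [card_centralizer_equiv θ.symm z0]; exact C.dvd_cent))
  obtain ⟨ψ, hψ⟩ : ∃ ψ : G ≃* M, ψ z = z0 := by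
    refine ⟨(MulAut.conj g).trans θ, ?_⟩
    show θ (g * z * g⁻¹) = z0
    rw [hg, MulEquiv.apply_symm_apply]
  have hc : Nat.card (Subgroup.centralizer ({z0} : Set M)) = 2 ^ 13 * 405 := by
    rw [← hψ, card_centralizer_equiv ψ z, D.card_cent]
  have hcz : (Subgroup.centralizer ({z0} : Set M)).map ψ.symm.toMonoidHom =
      Subgroup.centralizer ({z} : Set G) := by
    rw [centralizer_map_equiv, Set.image_singleton, ← hψ, MulEquiv.symm_apply_apply]
  have hQ0 : Q0.map ψ.symm.toMonoidHom ≤ Q' := by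
    rw [hQQ]
    refine le_map_of_normalised hF (C.Q0_pgroup.map _) ?_ ?_
    · rw [← hcz]
      exact Subgroup.map_mono C.Q0_le_cent
    · rw [← hcz]
      exact (Subgroup.map_mono (C.cent_le_normalizer hc)).trans (Subgroup.map_equiv_normalizer_eq Q0 ψ.symm).le
  have hs : ψ.symm s0 ∈ Q' := hQ0 ⟨s0, C.s0_mem, rfl⟩
  have hs2 : ψ.symm s0 * ψ.symm s0 = 1 := by rw [← map_mul, C.invol_facts.2.1, map_one]
  have hs1 : ψ.symm s0 ≠ 1 := fun h => hs01 (ψ.symm.injective (h.trans (map_one ψ.symm).symm))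
  have hsne : ψ.symm s0 ≠ z := fun h => hsz (ψ.symm.injective (by rw [h, ← hψ, MulEquiv.symm_apply_apply]))
  -- move `X` to the subgroup of the model
  obtain ⟨Xg, hXg⟩ : ∃ Xg, Xg = X.map (Subgroup.subtype (Subgroup.centralizer ({z} : Set G))) := ⟨_, rfl⟩
  have hXcard : Nat.card Xg = 3 := by
    rw [hXg, Subgroup.card_map_of_injective (Subgroup.subtype_injective _), hX]
  haveI : IsCyclic Xg := isCyclic_of_prime_card hXcard
  obtain ⟨⟨x, hxX⟩, hx⟩ := IsCyclic.exists_generator (α := Xg)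
  have hXz : Xg = Subgroup.zpowers x := by
    refine le_antisymm (fun a ha => ?_) (Subgroup.zpowers_le.2 hxX)
    obtain ⟨k, hk⟩ := hx ⟨a, ha⟩
    exact ⟨k, by simpa using congrArg Subtype.val hk⟩
  have hx3 : orderOf x = 3 := by rw [← Nat.card_zpowers, ← hXz, hXcard]
  have hxz : x * z = z * x :=
    Subgroup.mem_centralizer_singleton_iff.1 (Subgroup.map_subtype_le X (hXg ▸ hxX))
  obtain ⟨a, ha, ha2, ha1, hane, hxa⟩ := exists_invol_comm D (X := Xg) hxX (by
    rw [hQQ, hXg, ← Subgroup.map_commutator, Subgroup.card_map_of_injective (Subgroup.subtype_injective _), hQX])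
  obtain ⟨c, hcz', hcX⟩ := exists_conj_three F (x1 := ψ.symm x0) (x2 := x) (a1 := ψ.symm s0) (a2 := a)
    (by rw [MulEquiv.orderOf_eq, C.orderOf_x0])
    (by rw [show z = ψ.symm z0 by rw [← hψ, MulEquiv.symm_apply_apply], ← map_mul, C.comm_x0.1, map_mul])
    (by rw [← map_mul, C.comm_x0.2, map_mul]) hs hs2 hs1 hsne hx3 hxz hxa ha ha2 ha1 hane
  obtain ⟨φ, hφ⟩ : ∃ φ : M ≃* G, (Subgroup.zpowers x0).map φ.toMonoidHom = Xg := by
    refine ⟨ψ.symm.trans (MulAut.conj c), ?_⟩
    rw [hXz, ← hcX, MonoidHom.map_zpowers, MonoidHom.map_zpowers]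
    rfl
  -- the Sylow subgroup
  have hP0N : P0.map φ.toMonoidHom ≤ N := by
    rw [hN, ← hXg, ← hφ]
    exact (Subgroup.map_mono C.P0_le).trans (Subgroup.map_equiv_normalizer_eq _ φ).le
  have hP0card : Nat.card (P0.map φ.toMonoidHom) = 3 ^ 7 := by
    rw [Subgroup.card_map_of_injective φ.injective, C.card_P0]
  have hN7 : (Nat.card N).factorization 3 = 7 := by
    refine le_antisymm (h7 ▸ ((Nat.factorization_le_iff_dvd Nat.card_pos.ne' Nat.card_pos.ne').2
      (Subgroup.card_subgroup_dvd_card N)) 3) ?_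
    exact (Nat.prime_three.pow_dvd_iff_le_factorization Nat.card_pos.ne').1
      (hP0card ▸ Subgroup.card_dvd_of_le hP0N)
  let S : Sylow 3 N := Sylow.ofCard ((P0.map φ.toMonoidHom).subgroupOf N) (by
    rw [Nat.card_congr (Subgroup.subgroupOfEquivOfLe hP0N).toEquiv, hP0card, hN7])
  obtain ⟨n, hn⟩ := MulAction.exists_smul_eq N S P
  obtain ⟨Φ, hΦ⟩ : ∃ Φ : M ≃* G, P0.map Φ.toMonoidHom ≤ (P : Subgroup N).map N.subtype := by
    refine ⟨φ.trans (MulAut.conj (n : G)), ?_⟩
    rintro _ ⟨p, hp, rfl⟩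
    refine ⟨n * ⟨φ p, hP0N ⟨p, hp, rfl⟩⟩ * n⁻¹, ?_, rfl⟩
    rw [← hn]
    exact ⟨⟨φ p, hP0N ⟨p, hp, rfl⟩⟩, ⟨p, hp, rfl⟩, rfl⟩
  refine ⟨fun h3 => ?_, A0.map Φ.toMonoidHom, (Subgroup.map_mono C.A0_le_P0).trans hΦ, ?_⟩
  · have hcardP : Nat.card ((P : Subgroup N).map N.subtype) = 3 ^ 7 := by
      rw [Subgroup.card_map_of_injective (Subgroup.subtype_injective _), P.card_eq_multiplicity, hN7]
    have h := ((P : Subgroup N).map N.subtype).card_mul_index
    rw [hcardP, hG] at h
    omega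
  have hcomm := C.A0_comm
  have hexp : ∀ a ∈ A0, a ^ 3 = 1 := fun a ha => by
    obtain ⟨v, rfl⟩ := C.exists_fe ha
    rw [pow_succ, pow_two, ← C.fe_add, ← C.fe_add]
    have h0 : v + v + v = 0 := funext fun i => three_add (v i)
    rw [h0, C.fe_zero]
  obtain ⟨h1, h2, h3⟩ := transport_local Φ hcomm hexp C.centralizer_A0 C.quotient_iso
  exact ⟨h1, by rw [Subgroup.card_map_of_injective Φ.injective, C.card_A0], h2, h3⟩

end CfsgLib.SuzThree
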