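import Cfsg.Agent.SuzThree.Data

/-! Kernel checks for the chains, the relations and the eleven lines. -/

set_option autoImplicit false
set_option maxRecDepth 100000
set_option exponentiation.threshold 200000
set_option Elab.async false

namespace CfsgLib.SuzThree

open CfsgLib.CosetEnum CfsgLib.PresentedOut

/-- The base. -/
def bs : List ℕ := [0, 1, 2, 380]

/-- Letters of the generators of the centraliser of the involution. -/
def lettersC : List ℕ := [7, 8, 9, 10, 11, 12, 13, 14, 15, 16, 17, 18, 19, 0, 20, 21, 22, 23]

/-- Letters of the extraspecial group. -/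
def lettersQ : List ℕ := [7, 8, 9, 10, 11, 12, 13]

/-- Letters of the elements normalising the abelian group. -/
def lettersN : List ℕ := [5, 6, 24, 25, 26, 27, 28, 29]

theorem letters_S : stepsS.map Step.g = [7, 8, 9, 10, 11, 12, 13, 14, 15, 16, 17, 18, 19] := by decide +kernel

theorem letters_Q : (stepsS.take 7).map Step.g = lettersQ := by decide +kernel

theorem letters_T : stepsT.map Step.g = [0, 20, 21, 22] := by decide +kernel

theorem letters_F : stepsF.map Step.g = [23] := by decide +kernel

theorem letters_P : stepsP.map Step.g = [0, 1, 2, 3, 4, 5, 6] := by decide +kernel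

theorem letters_A : (stepsP.take 5).map Step.g = [0, 1, 2, 3, 4] := by decide +kernel

theorem letters_R : stepsR.map Step.g = [24, 25, 26, 27] := by decide +kernel

theorem letters_H : stepsH.map Step.g = [28] := by decide +kernel

theorem letters_K : stepsK.map Step.g = [29] := by decide +kernel

theorem chainS : chainOK 1782 11 33 2 tb bs [] stepsS = true := by decide +kernel

theorem chainQ : chainOK 1782 11 33 2 tb bs [] (stepsS.take 7) = true := by decide +kernel

theorem chainT : chainOK 1782 11 33 3 tb bs [] stepsT = true := by decide +kernel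

theorem chainF : chainOK 1782 11 33 5 tb bs [] stepsF = true := by decide +kernel

theorem chainP : chainOK 1782 11 33 3 tb bs [] stepsP = true := by decide +kernel

theorem chainA : chainOK 1782 11 33 3 tb bs [] (stepsP.take 5) = true := by decide +kernel

theorem chainR : chainOK 1782 11 33 2 tb bs [] stepsR = true := by decide +kernel

theorem chainH : chainOK 1782 11 33 11 tb bs [] stepsH = true := by decide +kernel

theorem chainK : chainOK 1782 11 33 5 tb bs [] stepsK = true := by decide +kernel

/-- Conjugation by the letters `gs` maps the group of the letters `L` into itself. -/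
noncomputable def conjOK (gs L : List ℕ) (cs : List (List (List ℕ))) : Bool :=
  Nat.beq cs.length gs.length && (gs.zip cs).all fun q => Nat.beq q.2.length L.length &&
    (L.zip q.2).all fun r => subL L r.2 && sameOn tb bs [q.1, r.1] (r.2 ++ [q.1])

theorem conjQ_ok : conjOK lettersC lettersQ conjQ = true := by decide +kernel

theorem conjA_ok : conjOK lettersN [0, 1, 2, 3, 4] conjA = true := by decide +kernel

/-- The letters of the list commute with the letter. -/
noncomputable def commOK (gs : List ℕ) (a : ℕ) : Bool := gs.all fun g => sameOn tb bs [g, a] [a, g]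

theorem comm_z : commOK lettersC 7 = true := by decide +kernel

theorem comm_x : commOK [8, 5, 6, 1, 2, 3, 4] 0 = true := by decide +kernel

theorem comm_A : ([0, 1, 2, 3, 4].all fun a => commOK [0, 1, 2, 3, 4] a) = true := by decide +kernel

theorem cube_A : ([0, 1, 2, 3, 4].all fun a => sameOn tb bs [a, a, a] []) = true := by decide +kernel

theorem invol : (sameOn tb bs [7, 7] [] && sameOn tb bs [8, 8] [] && !(sameOn tb bs [7] []) &&
    !(sameOn tb bs [8] []) && !(sameOn tb bs [8] [7]) && !(sameOn tb bs [0] [])) = true := by
  decide +kernel

/-- Digit `i` of a code. -/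
def dg (c i : ℕ) : ℕ := c / 3 ^ i % 3

/-- The element of a code as a word in the basis. -/
def aw (c : ℕ) : List ℕ :=
  List.replicate (dg c 0) 0 ++ List.replicate (dg c 1) 1 ++ List.replicate (dg c 2) 2 ++
    List.replicate (dg c 3) 3 ++ List.replicate (dg c 4) 4

/-- The code of the inverse. -/
def negC (c : ℕ) : ℕ :=
  (3 - dg c 0) % 3 + 3 * ((3 - dg c 1) % 3) + 9 * ((3 - dg c 2) % 3) + 27 * ((3 - dg c 3) % 3) +
    81 * ((3 - dg c 4) % 3)

/-- The word moves the point. -/
noncomputable def movesEntry (n : ℕ) (w : List ℕ) (j : ℕ) : Bool :=
  bif Nat.blt j n then !(Nat.beq (walk tb w j) j) else true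

theorem special : (List.range 243).all (fun c => Nat.beq c 0 ||
    lineCodes.any (fun l => Nat.beq c l || Nat.beq c (negC l)) ||
    allR (movesEntry 1782 (aw c)) 11 0) = true := by decide +kernel

theorem lineFix_ok : (List.range 11).all (fun i => Nat.blt (lineFix.getD i 0) 1782 &&
    sameOn tb [lineFix.getD i 0] (aw (lineCodes.getD i 0)) [] &&
    Nat.blt (lineCodes.getD i 0) 243 && !(Nat.beq (lineCodes.getD i 0) 0)) = true := by decide +kernel

theorem lines_distinct : (List.range 11).all (fun i => (List.range 11).all fun j => Nat.beq i j ||
    (!(Nat.beq (lineCodes.getD i 0) (lineCodes.getD j 0)) &&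
      !(Nat.beq (lineCodes.getD i 0) (negC (lineCodes.getD j 0))))) = true := by decide +kernel

end CfsgLib.SuzThree
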