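import Cfsg.Agent.SuzThree.Data
import Cfsg.Agent.SuzThree.Checks
import Cfsg.Agent.PresentedOut.Suz.Checks

/-! Certified search for the elements commuting with the abelian group of order `3 ^ 5`. -/

set_option autoImplicit false
set_option maxRecDepth 100000
set_option exponentiation.threshold 200000
set_option Elab.async false

namespace CfsgLib.SuzThree

open CfsgLib.CosetEnum CfsgLib.PresentedOut

noncomputable section

/-- The pair `(i, j)` and the pair `(k, l)` are related alike, also after moving by the tables. -/
def sameU (R : ℕ → ℕ → ℕ) (Us : List ℕ) (i j k l : ℕ) : Bool :=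
  Nat.beq (R i j) (R k l) && Us.all fun U =>
    (force (ext U j) fun a => force (ext U l) fun b => Nat.beq (R i a) (R k b)) &&
      (force (ext U i) fun a => force (ext U k) fun b => Nat.beq (R a j) (R b l))

/-- Every point with the profile of `b` is listed. -/
def profU (R : ℕ → ℕ → ℕ) (n : ℕ) (Us : List ℕ) (b : ℕ) (L : List ℕ) (q : ℕ) : Bool :=
  bif Nat.blt q n then !(sameU R Us b b q q) || memN L q else true

/-- Every compatible quadruple is the image of the base under a listed element. -/
def searchU (R : ℕ → ℕ → ℕ) (Us : List ℕ) (L0 L1 L2 L3 : List ℕ) (K : ℕ → List ℕ) (m : ℕ) : Bool :=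
  L0.all fun q0 => L1.all fun q1 => !(sameU R Us 0 1 q0 q1) ||
    L2.all fun q2 => !(sameU R Us 0 2 q0 q2 && sameU R Us 1 2 q1 q2) ||
      L3.all fun q3 => !(sameU R Us 0 380 q0 q3 && sameU R Us 1 380 q1 q3 && sameU R Us 2 380 q2 q3) ||
        (List.range m).any fun c => Nat.beq (walk tb (K c) 0) q0 && Nat.beq (walk tb (K c) 1) q1 &&
          Nat.beq (walk tb (K c) 2) q2 && Nat.beq (walk tb (K c) 380) q3

/-- The tables used in the search. -/
def Us : List ℕ := [t0, t1, t2, t3, t4, t30, t31, t32]

theorem profC0 : allR (profU CfsgLib.PresentedOut.Suz.R 1782 Us 0 LC0) 11 0 = true := by decide +kernel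

theorem profC1 : allR (profU CfsgLib.PresentedOut.Suz.R 1782 Us 1 LC1) 11 0 = true := by decide +kernel

theorem profC2 : allR (profU CfsgLib.PresentedOut.Suz.R 1782 Us 2 LC2) 11 0 = true := by decide +kernel

theorem profC3 : allR (profU CfsgLib.PresentedOut.Suz.R 1782 Us 380 LC3) 11 0 = true := by decide +kernel

theorem searchC : searchU CfsgLib.PresentedOut.Suz.R Us LC0 LC1 LC2 LC3 aw 243 = true := by decide +kernel

end

end CfsgLib.SuzThree
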