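import Cfsg.Agent.CosetEnum.SuzH.Data
import Cfsg.Agent.CosetEnum.Simple
import Cfsg.Agent.SuzThree.Data

set_option autoImplicit false
set_option maxRecDepth 100000
set_option exponentiation.threshold 200000
set_option Elab.async false

/-! The tables are the actions of the words. -/

namespace CfsgLib.SuzThree

open CfsgLib.CosetEnum

theorem table1 : allR (wordEntry 1782 SuzH.tb (W.getD 1 []) t1) 11 0 = true := by decide +kernel

theorem table3 : allR (wordEntry 1782 SuzH.tb (W.getD 3 []) t3) 11 0 = true := by decide +kernel

theorem table5 : allR (wordEntry 1782 SuzH.tb (W.getD 5 []) t5) 11 0 = true := by decide +kernel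

theorem table6 : allR (wordEntry 1782 SuzH.tb (W.getD 6 []) t6) 11 0 = true := by decide +kernel

theorem table10 : allR (wordEntry 1782 SuzH.tb (W.getD 10 []) t10) 11 0 = true := by decide +kernel

theorem table13 : allR (wordEntry 1782 SuzH.tb (W.getD 13 []) t13) 11 0 = true := by decide +kernel

theorem table16 : allR (wordEntry 1782 SuzH.tb (W.getD 16 []) t16) 11 0 = true := by decide +kernel

theorem table24 : allR (wordEntry 1782 SuzH.tb (W.getD 24 []) t24) 11 0 = true := by decide +kernel

theorem table25 : allR (wordEntry 1782 SuzH.tb (W.getD 25 []) t25) 11 0 = true := by decide +kernel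

theorem table29 : allR (wordEntry 1782 SuzH.tb (W.getD 29 []) t29) 11 0 = true := by decide +kernel

theorem table31 : allR (wordEntry 1782 SuzH.tb (W.getD 31 []) t31) 11 0 = true := by decide +kernel

end CfsgLib.SuzThree
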