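import Cfsg.Agent.CosetEnum.SuzH.Data
import Cfsg.Agent.CosetEnum.Simple
import Cfsg.Agent.SuzThree.Data

set_option autoImplicit false
set_option maxRecDepth 100000
set_option exponentiation.threshold 200000
set_option Elab.async false

/-! The tables are the actions of the words. -/

namespace CfsgLib.SuzThree

open CfsgLib.CosetEnum

theorem table0 : allR (wordEntry 1782 SuzH.tb (W.getD 0 []) t0) 11 0 = true := by decide +kernel

theorem table4 : allR (wordEntry 1782 SuzH.tb (W.getD 4 []) t4) 11 0 = true := by decide +kernel

theorem table8 : allR (wordEntry 1782 SuzH.tb (W.getD 8 []) t8) 11 0 = true := by decide +kernel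

theorem table11 : allR (wordEntry 1782 SuzH.tb (W.getD 11 []) t11) 11 0 = true := by decide +kernel

theorem table12 : allR (wordEntry 1782 SuzH.tb (W.getD 12 []) t12) 11 0 = true := by decide +kernel

theorem table14 : allR (wordEntry 1782 SuzH.tb (W.getD 14 []) t14) 11 0 = true := by decide +kernel

theorem table19 : allR (wordEntry 1782 SuzH.tb (W.getD 19 []) t19) 11 0 = true := by decide +kernel

theorem table22 : allR (wordEntry 1782 SuzH.tb (W.getD 22 []) t22) 11 0 = true := by decide +kernel

theorem table26 : allR (wordEntry 1782 SuzH.tb (W.getD 26 []) t26) 11 0 = true := by decide +kernel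

theorem table30 : allR (wordEntry 1782 SuzH.tb (W.getD 30 []) t30) 11 0 = true := by decide +kernel

theorem table32 : allR (wordEntry 1782 SuzH.tb (W.getD 32 []) t32) 11 0 = true := by decide +kernel

end CfsgLib.SuzThree
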