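import Cfsg.Agent.CosetEnum.SuzH.Data
import Cfsg.Agent.CosetEnum.Simple
import Cfsg.Agent.SuzThree.Data

set_option autoImplicit false
set_option maxRecDepth 100000
set_option exponentiation.threshold 200000
set_option Elab.async false

/-! The tables are the actions of the words. -/

namespace CfsgLib.SuzThree

open CfsgLib.CosetEnum

theorem table2 : allR (wordEntry 1782 SuzH.tb (W.getD 2 []) t2) 11 0 = true := by decide +kernel

theorem table7 : allR (wordEntry 1782 SuzH.tb (W.getD 7 []) t7) 11 0 = true := by decide +kernel

theorem table9 : allR (wordEntry 1782 SuzH.tb (W.getD 9 []) t9) 11 0 = true := by decide +kernel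

theorem table15 : allR (wordEntry 1782 SuzH.tb (W.getD 15 []) t15) 11 0 = true := by decide +kernel

theorem table17 : allR (wordEntry 1782 SuzH.tb (W.getD 17 []) t17) 11 0 = true := by decide +kernel

theorem table18 : allR (wordEntry 1782 SuzH.tb (W.getD 18 []) t18) 11 0 = true := by decide +kernel

theorem table20 : allR (wordEntry 1782 SuzH.tb (W.getD 20 []) t20) 11 0 = true := by decide +kernel

theorem table21 : allR (wordEntry 1782 SuzH.tb (W.getD 21 []) t21) 11 0 = true := by decide +kernel

theorem table23 : allR (wordEntry 1782 SuzH.tb (W.getD 23 []) t23) 11 0 = true := by decide +kernel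

theorem table27 : allR (wordEntry 1782 SuzH.tb (W.getD 27 []) t27) 11 0 = true := by decide +kernel

theorem table28 : allR (wordEntry 1782 SuzH.tb (W.getD 28 []) t28) 11 0 = true := by decide +kernel

end CfsgLib.SuzThree
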