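import Cfsg.Agent.SuzThree.Checks
import Cfsg.Agent.SuzThree.TablesA
import Cfsg.Agent.SuzThree.TablesB
import Cfsg.Agent.SuzThree.TablesC
import Cfsg.Agent.SuzThree.Search
import Cfsg.Agent.PresentedOut.Suz.Main

/-!
The certified action of the presented group `Cfsg.Spor.Suz` together with the chosen elements.
-/

set_option autoImplicit false
set_option maxRecDepth 100000
set_option exponentiation.threshold 200000
set_option linter.style.haveILetI false

namespace CfsgLib.SuzThree

open CfsgLib.CosetEnum CfsgLib.PresentedOut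

noncomputable section

/-- The presented group. -/
abbrev M : Type := CfsgLib.CosetEnum.Suz.setup.Grp

/-- The chosen elements. -/
def x (k : ℕ) : M := prodw CfsgLib.CosetEnum.Suz.setup.g (W.getD k [])

/-- The action, with everything the certificates need. -/
structure Ctx where
  φ : M →* Equiv.Perm (Fin 1782)
  inj : Function.Injective φ
  base : IsBase φ bs
  tables : HasTables φ x 33 tb
  inv : IsInvariant φ CfsgLib.PresentedOut.Suz.R
  card : Nat.card M = 448345497600
  fin : Finite M
  eleven : ∃ h : M, orderOf h = 11 ∧ ∀ g, Commute g h → g ∈ Subgroup.zpowers h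

theorem words_lt : ∀ w ∈ W, ∀ a ∈ w, a < 7 := by decide +kernel

theorem exists_ctx : Nonempty Ctx := by
  haveI hfin : Finite M := CfsgLib.CosetEnum.Suz.finite_grp
  obtain ⟨φ, e, hφ, he, he0, hinj, hcard⟩ := CfsgLib.CosetEnum.Suz.order_and_action
  have hfix : Nat.card (fixK φ [380, 2, 1, 0]) ≤ 1 := by
    have h1 := card_range_ge φ _ (SuzH.level0 φ hφ _ (SuzH.level1 φ hφ _ (SuzH.level2 φ hφ _
      (SuzH.level3 φ hφ _ (le_refl (Nat.card (fixK φ [380, 2, 1, 0])))))))
    have h2 : Nat.card φ.range ≤ 448345497600 :=
      hcard ▸ Nat.card_le_card_of_surjective _ φ.rangeRestrict_surjective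
    omega
  have base : ∀ l : List ℕ, (∀ i ∈ [380, 2, 1, 0], i ∈ l) → IsBase φ l := fun l hl g h hgh =>
    isBase_of_card hinj hfix g h fun i hi => hgh i (hl _ hi)
  have htab : ∀ (w : List ℕ) (A : ℕ), (∀ a ∈ w, a < 7) →
      allR (wordEntry 1782 SuzH.tb w A) 11 0 = true →
      ∀ i : Fin SuzH.enum.n, (img φ (prodw CfsgLib.CosetEnum.Suz.setup.g w) i).val = ext A i := by
    intro w A hw h i
    have hi : i.val < 1782 := i.isLt
    have h1 := allR_spec 11 0 h i (Nat.zero_le _) (by norm_num; omega)
    unfold wordEntry at h1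
    rw [show Nat.blt i.val 1782 = true by simpa using hi, cond_true] at h1
    exact (hφ w hw i).trans (Nat.eq_of_beq_eq_true h1)
  have hlt : ∀ k, ∀ a ∈ W.getD k [], a < 7 := fun k a ha => by
    by_cases hk : k < W.length
    · rw [List.getD_eq_getElem _ _ hk] at ha
      exact words_lt _ (List.getElem_mem hk) a ha
    · rw [List.getD_eq_default _ _ (by omega)] at ha
      simp at ha
  have hx : HasTables φ x 33 tb := by
    intro k hk i
    interval_cases k
    · exact htab _ t0 (hlt 0) table0 i
    · exact htab _ t1 (hlt 1) table1 i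
    · exact htab _ t2 (hlt 2) table2 i
    · exact htab _ t3 (hlt 3) table3 i
    · exact htab _ t4 (hlt 4) table4 i
    · exact htab _ t5 (hlt 5) table5 i
    · exact htab _ t6 (hlt 6) table6 i
    · exact htab _ t7 (hlt 7) table7 i
    · exact htab _ t8 (hlt 8) table8 i
    · exact htab _ t9 (hlt 9) table9 i
    · exact htab _ t10 (hlt 10) table10 i
    · exact htab _ t11 (hlt 11) table11 i
    · exact htab _ t12 (hlt 12) table12 i
    · exact htab _ t13 (hlt 13) table13 i
    · exact htab _ t14 (hlt 14) table14 i
    · exact htab _ t15 (hlt 15) table15 i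
    · exact htab _ t16 (hlt 16) table16 i
    · exact htab _ t17 (hlt 17) table17 i
    · exact htab _ t18 (hlt 18) table18 i
    · exact htab _ t19 (hlt 19) table19 i
    · exact htab _ t20 (hlt 20) table20 i
    · exact htab _ t21 (hlt 21) table21 i
    · exact htab _ t22 (hlt 22) table22 i
    · exact htab _ t23 (hlt 23) table23 i
    · exact htab _ t24 (hlt 24) table24 i
    · exact htab _ t25 (hlt 25) table25 i
    · exact htab _ t26 (hlt 26) table26 i
    · exact htab _ t27 (hlt 27) table27 i
    · exact htab _ t28 (hlt 28) table28 i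
    · exact htab _ t29 (hlt 29) table29 i
    · exact htab _ t30 (hlt 30) table30 i
    · exact htab _ t31 (hlt 31) table31 i
    · exact htab _ t32 (hlt 32) table32 i
  have hR : IsInvariant φ CfsgLib.PresentedOut.Suz.R :=
    isInvariant_rel (E := SuzH.enum) (d := 11) (show 1782 ≤ 2 ^ 11 by norm_num) (show 0 < 1782 by norm_num)
      hφ e he (by rw [he0]; rfl) SuzH.treeValid CfsgLib.PresentedOut.Suz.classes 19
      CfsgLib.PresentedOut.Suz.down_ok CfsgLib.PresentedOut.Suz.cls_ok
  refine ⟨⟨φ, hinj, base _ (by decide), hx, hR, hcard, hfin, ?_⟩⟩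
  -- the centraliser of an element of order eleven
  let y : ℕ → M := fun i => prodw CfsgLib.CosetEnum.Suz.setup.g (CfsgLib.PresentedOut.Suz.W.getD i [])
  have hy : HasTables φ y 6 CfsgLib.PresentedOut.Suz.tb := by
    intro k hk i
    interval_cases k
    · exact htab _ CfsgLib.PresentedOut.Suz.t0 (by decide +kernel) CfsgLib.PresentedOut.Suz.table0 i
    · exact htab _ CfsgLib.PresentedOut.Suz.t1 (by decide +kernel) CfsgLib.PresentedOut.Suz.table1 i
    · exact htab _ CfsgLib.PresentedOut.Suz.t2 (by decide +kernel) CfsgLib.PresentedOut.Suz.table2 i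
    · exact htab _ CfsgLib.PresentedOut.Suz.t3 (by decide +kernel) CfsgLib.PresentedOut.Suz.table3 i
    · exact htab _ CfsgLib.PresentedOut.Suz.t4 (by decide +kernel) CfsgLib.PresentedOut.Suz.table4 i
    · exact htab _ CfsgLib.PresentedOut.Suz.t5 (by decide +kernel) CfsgLib.PresentedOut.Suz.table5 i
  have hB : IsBase φ [0, 1, 2, 380] := base _ (by decide)
  have hbs : ∀ i ∈ [0, 1, 2, 380], i < 1782 := by decide
  refine ⟨y 0, ?_, fun g hg => ?_⟩
  · haveI : Fact (Nat.Prime 11) := ⟨by norm_num⟩
    refine orderOf_eq_prime ?_ fun h => ?_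
    · have := eq_of_sameOn hB hy (v := List.replicate 11 0) (w := []) (by decide) (by decide)
        (by decide +kernel)
      rwa [prodw_const, prodw_nil] at this
    · have h' := sameOn_of_eq hbs hy (v := [0]) (w := []) (by decide) (by decide) (by simpa [prodw] using h)
      exact absurd h' (by decide +kernel)
  · obtain ⟨w, hw, rfl⟩ := exists_eq_of_commute (d := 11) (show 1782 ≤ 2 ^ 11 by norm_num) hR
      (base [380, 0, 1, 2] (by decide)) (show 380 < 1782 by norm_num) (show 0 < 1782 by norm_num)
      (show 1 < 1782 by norm_num) (show 2 < 1782 by norm_num) hy (c := 0) (by norm_num)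
      (KW := CfsgLib.PresentedOut.Suz.KA) (by decide +kernel) CfsgLib.PresentedOut.Suz.profA3
      CfsgLib.PresentedOut.Suz.profA0 CfsgLib.PresentedOut.Suz.profA1 CfsgLib.PresentedOut.Suz.profA2
      CfsgLib.PresentedOut.Suz.searchA hg
    rcases List.mem_append.mp hw with hw | hw <;> obtain ⟨i, hi, rfl⟩ := List.mem_map.mp hw <;>
      rw [List.mem_range] at hi
    · rw [prodw_const]
      exact pow_mem (Subgroup.mem_zpowers _) i
    · exfalso
      have hlt : ∀ a ∈ 5 :: List.replicate i 0, a < 6 := by
        intro a ha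
        rcases List.mem_cons.mp ha with rfl | ha
        · norm_num
        · rw [List.eq_of_mem_replicate ha]; norm_num
      have h := sameOn_of_eq hbs hy (v := (5 :: List.replicate i 0) ++ [0])
        (w := 0 :: 5 :: List.replicate i 0)
        (fun a ha => by
          rcases List.mem_append.mp ha with ha | ha
          · exact hlt a ha
          · rw [List.mem_singleton.mp ha]; norm_num)
        (fun a ha => by
          rcases List.mem_cons.mp ha with rfl | ha
          · norm_num
          · exact hlt a ha)
        (by rw [prodw_append, prodw_cons y 0 (5 :: List.replicate i 0)]; simpa [prodw] using hg.eq)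
      rw [CfsgLib.PresentedOut.Suz.centOK i hi] at h
      exact Bool.noConfusion h

end

end CfsgLib.SuzThree
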