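import Cfsg.Agent.PresentedOut.Basic

/-!
Certified polycyclic chains in a permutation group: the order of the subgroup and the prime.
-/

set_option autoImplicit false

namespace CfsgLib.SuzThree

open CfsgLib.CosetEnum CfsgLib.PresentedOut

noncomputable section

/-- A step of a chain: the letter, words for its power and conjugates, a point and an orbit mask. -/
structure Step where
  g : ℕ
  pw : List ℕ
  cj : List (List ℕ)
  pt : ℕ
  mask : ℕ

/-- Every word uses letters from the given list. -/
def subL (pre w : List ℕ) : Bool := w.all fun a => pre.any fun b => Nat.beq a b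

/-- The mask is closed under the letters. -/
def closedL (n : ℕ) (tb : ℕ → ℕ) (pre : List ℕ) (K j : ℕ) : Bool :=
  bif Nat.blt j n && bit K j then pre.all fun a => bit K (T tb a j) else true

/-- The check of one step after the letters `pre`. -/
def stepOK (n d k p : ℕ) (tb : ℕ → ℕ) (bs pre : List ℕ) (S : Step) : Bool :=
  Nat.blt S.g k && subL pre S.pw && sameOn tb bs (List.replicate p S.g) S.pw &&
    Nat.beq S.cj.length pre.length &&
    ((pre.zip S.cj).all fun q => subL pre q.2 && sameOn tb bs [S.g, q.1] (q.2 ++ [S.g])) &&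
    Nat.blt S.pt n && bit S.mask S.pt && !(bit S.mask (T tb S.g S.pt)) &&
    allR (closedL n tb pre S.mask) d 0

/-- The check of a chain. -/
def chainOK (n d k p : ℕ) (tb : ℕ → ℕ) (bs : List ℕ) : List ℕ → List Step → Bool
  | _, [] => true
  | pre, S :: rest => stepOK n d k p tb bs pre S && chainOK n d k p tb bs (pre ++ [S.g]) rest

variable {G : Type*} [Group G] {n : ℕ} {φ : G →* Equiv.Perm (Fin n)}

/-- The subgroup generated by some letters. -/
def gen (x : ℕ → G) (L : List ℕ) : Subgroup G := Subgroup.closure {g | ∃ a ∈ L, g = x a}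

theorem gen_nil (x : ℕ → G) : gen x [] = ⊥ := by
  rw [gen, eq_bot_iff, Subgroup.closure_le]
  rintro g ⟨a, ha, -⟩
  simp at ha

theorem mem_gen {x : ℕ → G} {L : List ℕ} {a : ℕ} (ha : a ∈ L) : x a ∈ gen x L :=
  Subgroup.subset_closure ⟨a, ha, rfl⟩

theorem gen_le_iff {x : ℕ → G} {L : List ℕ} {H : Subgroup G} :
    gen x L ≤ H ↔ ∀ a ∈ L, x a ∈ H := by
  rw [gen, Subgroup.closure_le]
  exact ⟨fun h a ha => h ⟨a, ha, rfl⟩, fun h g ⟨a, ha, e⟩ => e ▸ h a ha⟩

theorem gen_mono {x : ℕ → G} {L L' : List ℕ} (h : ∀ a ∈ L, a ∈ L') : gen x L ≤ gen x L' :=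
  gen_le_iff.2 fun a ha => mem_gen (h a ha)

theorem gen_snoc (x : ℕ → G) (L : List ℕ) (a : ℕ) :
    gen x (L ++ [a]) = gen x L ⊔ Subgroup.zpowers (x a) := by
  refine le_antisymm (gen_le_iff.2 fun b hb => ?_)
    (sup_le (gen_mono fun b hb => List.mem_append_left _ hb) (Subgroup.zpowers_le.2 (mem_gen (by simp))))
  rcases List.mem_append.1 hb with hb | hb
  · exact Subgroup.mem_sup_left (mem_gen hb)
  · rw [List.mem_singleton.1 hb]
    exact Subgroup.mem_sup_right (Subgroup.mem_zpowers _)

theorem prodw_mem_gen {x : ℕ → G} {L w : List ℕ} (h : subL L w = true) : prodw x w ∈ gen x L := by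
  induction w with
  | nil => rw [prodw_nil]; exact one_mem _
  | cons a w ih =>
    simp only [subL, List.all_cons, Bool.and_eq_true, List.any_eq_true] at h
    obtain ⟨b, hb, e⟩ := h.1
    rw [prodw_cons, Nat.eq_of_beq_eq_true e]
    exact mul_mem (mem_gen hb) (ih h.2)

theorem conj_mem_gen [Finite G] {x : ℕ → G} {L : List ℕ} {g : G}
    (h : ∀ a ∈ L, g * x a * g⁻¹ ∈ gen x L) : g ∈ Subgroup.normalizer (gen x L : Set G) := by
  have hle : (gen x L).map (MulAut.conj g).toMonoidHom ≤ gen x L := by
    rw [Subgroup.map_le_iff_le_comap, gen_le_iff]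
    exact h
  have heq : (gen x L).map (MulAut.conj g).toMonoidHom = gen x L := by
    refine Subgroup.eq_of_le_of_card_ge hle ?_
    rw [Subgroup.card_map_of_injective (MulAut.conj g).injective]
  rw [Subgroup.mem_normalizer_iff]
  intro y
  constructor
  · exact fun hy => hle ⟨y, hy, rfl⟩
  · intro hy
    rw [← heq] at hy
    obtain ⟨z, hz, e⟩ := hy
    have : z = y := (MulAut.conj g).injective e
    exact this ▸ hz

/-- One step: the order is multiplied by the prime. -/
theorem card_sup_zpowers [Finite G] {S : Subgroup G} {g : G} {p : ℕ} [hp : Fact p.Prime]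
    (hn : g ∈ Subgroup.normalizer (S : Set G)) (hpow : g ^ p ∈ S) (hg : g ∉ S) :
    Nat.card (S ⊔ Subgroup.zpowers g : Subgroup G) = p * Nat.card S := by
  set K := S ⊔ Subgroup.zpowers g
  have hSK : S ≤ K := le_sup_left
  have hK : K ≤ Subgroup.normalizer (S : Set G) :=
    sup_le Subgroup.le_normalizer (Subgroup.zpowers_le.2 hn)
  haveI : (S.subgroupOf K).Normal := (Subgroup.normal_subgroupOf_iff_le_normalizer hSK).2 hK
  have hgK : g ∈ K := Subgroup.mem_sup_right (Subgroup.mem_zpowers g)
  set q : K ⧸ S.subgroupOf K := QuotientGroup.mk ⟨g, hgK⟩ with hq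
  have htop : Subgroup.zpowers q = ⊤ := by
    rw [eq_top_iff]
    intro y _
    obtain ⟨⟨y, hy⟩, rfl⟩ := QuotientGroup.mk_surjective y
    have hle : K ≤ ((Subgroup.zpowers q).comap (QuotientGroup.mk' (S.subgroupOf K))).map K.subtype := by
      refine sup_le (fun s hs => ⟨⟨s, hSK hs⟩, ?_, rfl⟩) (Subgroup.zpowers_le.2 ⟨⟨g, hgK⟩, ?_, rfl⟩)
      · show QuotientGroup.mk' _ _ ∈ Subgroup.zpowers q
        rw [QuotientGroup.mk'_apply, (QuotientGroup.eq_one_iff _).2
          (show (⟨s, hSK hs⟩ : K) ∈ S.subgroupOf K from hs)]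
        exact one_mem _
      · exact Subgroup.mem_zpowers q
    obtain ⟨y', hy', e⟩ := hle hy
    have : y' = ⟨y, hy⟩ := Subtype.ext e
    rw [this] at hy'
    exact hy'
  have hord : orderOf q = p := by
    refine orderOf_eq_prime ?_ ?_
    · rw [hq, ← QuotientGroup.mk_pow, QuotientGroup.eq_one_iff, Subgroup.mem_subgroupOf]
      simpa using hpow
    · rw [hq, Ne, QuotientGroup.eq_one_iff, Subgroup.mem_subgroupOf]
      exact hg
  rw [Subgroup.card_eq_card_quotient_mul_card_subgroup (S.subgroupOf K),
    ← Subgroup.card_top (G := K ⧸ S.subgroupOf K), ← htop, Nat.card_zpowers, hord,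
    Nat.card_congr (Subgroup.subgroupOfEquivOfLe hSK).toEquiv]

theorem not_mem_of_mask [Finite G] {x : ℕ → G} {k d : ℕ} {tb : ℕ → ℕ} (hx : HasTables φ x k tb)
    (hd : n ≤ 2 ^ d) {pre : List ℕ} (hpre : ∀ a ∈ pre, a < k) {K : ℕ}
    (h : allR (closedL n tb pre K) d 0 = true) {g : G} (hg : g ∈ gen x pre) (i : Fin n)
    (hi : bit K i = true) : bit K (img φ g i) = true := by
  have step : ∀ a ∈ pre, ∀ i : Fin n, bit K i = true → bit K (img φ (x a) i) = true := by
    intro a ha i hi
    have h' := allR_spec d 0 h i.val (Nat.zero_le _) (by omega)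
    unfold closedL at h'
    rw [show (Nat.blt i.val n && bit K i.val) = true by simp [hi], cond_true, List.all_eq_true] at h'
    rw [hx a (hpre a ha) i]
    exact h' a ha
  have hpowers : ∀ (y : G), (∀ i : Fin n, bit K i = true → bit K (img φ y i) = true) →
      ∀ (m : ℕ) (i : Fin n), bit K i = true → bit K (img φ (y ^ m) i) = true := by
    intro y hy m
    induction m with
    | zero => intro i hi; rwa [pow_zero, img_one]
    | succ m ih => intro i hi; rw [pow_succ, img_mul]; exact hy _ (ih i hi)
  revert i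
  induction hg using Subgroup.closure_induction with
  | mem y hy =>
    obtain ⟨a, ha, rfl⟩ := hy
    exact step a ha
  | one => intro i hi; rwa [img_one]
  | mul y z _ _ hy hz => intro i hi; rw [img_mul]; exact hz _ (hy i hi)
  | inv y _ hy =>
    intro i hi
    have e : y⁻¹ = y ^ (orderOf y - 1) := by
      refine inv_eq_of_mul_eq_one_right ?_
      rw [← pow_succ', Nat.sub_add_cancel (orderOf_pos y), pow_orderOf_eq_one]
    rw [e]
    exact hpowers y hy _ i hi

theorem chain [Finite G] {x : ℕ → G} {k d p : ℕ} [hp : Fact p.Prime] {tb : ℕ → ℕ} {bs : List ℕ}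
    (hx : HasTables φ x k tb) (hB : IsBase φ bs) (hd : n ≤ 2 ^ d) :
    ∀ (L : List Step) (pre : List ℕ), (∀ a ∈ pre, a < k) → chainOK n d k p tb bs pre L = true →
      Nat.card (gen x pre) = p ^ pre.length →
      Nat.card (gen x (pre ++ L.map Step.g)) = p ^ (pre.length + L.length) := by
  intro L
  induction L with
  | nil => intro pre _ _ h; simpa using h
  | cons S L ih =>
    intro pre hpre h hc
    simp only [chainOK, Bool.and_eq_true] at h
    obtain ⟨hS, hrest⟩ := h
    simp only [stepOK, Bool.and_eq_true, Bool.not_eq_true'] at hS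
    obtain ⟨⟨⟨⟨⟨⟨⟨⟨hgk, hpw⟩, hpeq⟩, hlen⟩, hcj⟩, hpt⟩, hin⟩, hout⟩, hclosed⟩ := hS
    rw [Nat.blt_eq] at hgk hpt
    have hlt : ∀ w, subL pre w = true → ∀ a ∈ w, a < k := by
      intro w hw a ha
      simp only [subL, List.all_eq_true, List.any_eq_true] at hw
      obtain ⟨b, hb, e⟩ := hw a ha
      rw [Nat.eq_of_beq_eq_true e]; exact hpre b hb
    have hpow : x S.g ^ p ∈ gen x pre := by
      have e := eq_of_sameOn hB hx (fun a ha => by rw [List.eq_of_mem_replicate ha]; exact hgk)
        (hlt _ hpw) hpeq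
      rw [prodw, List.map_replicate, List.prod_replicate] at e
      rw [e]
      exact prodw_mem_gen hpw
    have hnorm : x S.g ∈ Subgroup.normalizer (gen x pre : Set G) := by
      refine conj_mem_gen fun a ha => ?_
      obtain ⟨i, hi, rfl⟩ := List.mem_iff_getElem.1 ha
      have hlen' : S.cj.length = pre.length := Nat.eq_of_beq_eq_true hlen
      rw [List.all_eq_true] at hcj
      have hmem : (pre[i], S.cj[i]'(hlen' ▸ hi)) ∈ pre.zip S.cj :=
        List.mem_iff_getElem.2 ⟨i, by rw [List.length_zip, hlen', min_self]; exact hi, List.getElem_zip ..⟩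
      have h2 := hcj _ hmem
      rw [Bool.and_eq_true] at h2
      have e := eq_of_sameOn hB hx
        (fun b hb => by
          rcases List.mem_cons.1 hb with rfl | hb
          · exact hgk
          · rw [List.mem_singleton.1 hb]; exact hpre _ ha)
        (fun b hb => by
          rcases List.mem_append.1 hb with hb | hb
          · exact hlt _ h2.1 b hb
          · rw [List.mem_singleton.1 hb]; exact hgk) h2.2
      simp only [prodw_cons, prodw_append, prodw_nil, mul_one] at e
      rw [e, mul_inv_cancel_right]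
      exact prodw_mem_gen h2.1
    have hnot : x S.g ∉ gen x pre := fun hm => by
      have := not_mem_of_mask hx hd hpre hclosed hm ⟨S.pt, hpt⟩ hin
      rw [hx _ hgk, hout] at this
      exact Bool.noConfusion this
    have hc' : Nat.card (gen x (pre ++ [S.g])) = p ^ (pre ++ [S.g]).length := by
      rw [gen_snoc, card_sup_zpowers hnorm hpow hnot, hc, List.length_append, List.length_singleton,
        pow_succ, mul_comm]
    have := ih (pre ++ [S.g]) (fun a ha => by
      rcases List.mem_append.1 ha with ha | ha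
      · exact hpre a ha
      · rw [List.mem_singleton.1 ha]; exact hgk) hrest hc'
    simpa [List.length_append, Nat.add_assoc, Nat.add_comm 1] using this

/-- The subgroup of a chain has prime power order. -/
theorem card_chain [Finite G] {x : ℕ → G} {k d p : ℕ} [Fact p.Prime] {tb : ℕ → ℕ} {bs : List ℕ}
    (hx : HasTables φ x k tb) (hB : IsBase φ bs) (hd : n ≤ 2 ^ d) (L : List Step)
    (h : chainOK n d k p tb bs [] L = true) :
    Nat.card (gen x (L.map Step.g)) = p ^ L.length ∧ IsPGroup p (gen x (L.map Step.g)) := by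
  have := chain hx hB hd L [] (by simp) h (by rw [gen_nil]; simp)
  rw [List.nil_append, List.length_nil, Nat.zero_add] at this
  exact ⟨this, IsPGroup.of_card this⟩

end

end CfsgLib.SuzThree
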