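import Cfsg.Agent.SuzThree.Ctx

/-!
The chosen subgroups of the presented group: orders, the centraliser of the involution and the
abelian group of order `3 ^ 5`.
-/

set_option autoImplicit false
set_option maxRecDepth 100000
set_option linter.style.haveILetI false

namespace CfsgLib.SuzThree

open CfsgLib.CosetEnum CfsgLib.PresentedOut

noncomputable section

/-- The involution. -/
def z0 : M := x 7

/-- The second involution. -/
def s0 : M := x 8

/-- The element of order three. -/
def x0 : M := x 0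

/-- The extraspecial group. -/
def Q0 : Subgroup M := gen x lettersQ

/-- The Sylow subgroup for three. -/
def P0 : Subgroup M := gen x [0, 1, 2, 3, 4, 5, 6]

/-- The abelian group. -/
def A0 : Subgroup M := gen x [0, 1, 2, 3, 4]

namespace Ctx

variable (C : Ctx)
include C

theorem finite : Finite M := C.fin

theorem eqw (v w : List ℕ) (hv : ∀ a ∈ v, a < 33) (hw : ∀ a ∈ w, a < 33)
    (h : sameOn tb bs v w = true) : prodw x v = prodw x w :=
  eq_of_sameOn C.base C.tables hv hw h

theorem ne_of (v w : List ℕ) (hv : ∀ a ∈ v, a < 33) (hw : ∀ a ∈ w, a < 33)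
    (h : (!(sameOn tb bs v w)) = true) : prodw x v ≠ prodw x w := fun e => by
  rw [sameOn_of_eq (show ∀ i ∈ bs, i < 1782 by decide) C.tables hv hw e] at h
  exact Bool.noConfusion h

theorem commute_of {gs : List ℕ} {a g : ℕ} (hgs : ∀ b ∈ gs, b < 33) (ha : a < 33)
    (h : commOK gs a = true) (hg : g ∈ gs) : x g * x a = x a * x g := by
  have := List.all_eq_true.1 h g hg
  have e := C.eqw [g, a] [a, g] (by simp [hgs g hg, ha]) (by simp [hgs g hg, ha]) this
  simpa [prodw] using e

theorem card_gen (p : ℕ) [Fact p.Prime] (L : List Step) (h : chainOK 1782 11 33 p tb bs [] L = true) :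
    Nat.card (gen x (L.map Step.g)) = p ^ L.length ∧ IsPGroup p (gen x (L.map Step.g)) :=
  haveI := C.fin
  card_chain C.tables C.base (by norm_num) L h

theorem conj_gen {gs L : List ℕ} {cs : List (List (List ℕ))} (hgs : ∀ a ∈ gs, a < 33)
    (hL : ∀ a ∈ L, a < 33) (h : conjOK gs L cs = true) :
    ∀ g ∈ gs, x g ∈ Subgroup.normalizer (gen x L : Set M) := by
  haveI := C.fin
  intro g hg
  simp only [conjOK, Bool.and_eq_true, List.all_eq_true] at h
  obtain ⟨hlen, hall⟩ := h
  have hlen' : cs.length = gs.length := Nat.eq_of_beq_eq_true hlen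
  obtain ⟨i, hi, rfl⟩ := List.mem_iff_getElem.1 hg
  have h1 := hall (gs[i], cs[i]'(hlen' ▸ hi))
    (List.mem_iff_getElem.2 ⟨i, by rw [List.length_zip, hlen', min_self]; exact hi, List.getElem_zip ..⟩)
  obtain ⟨hlen2, hall2⟩ := h1
  have hlen2' : (cs[i]'(hlen' ▸ hi)).length = L.length := Nat.eq_of_beq_eq_true hlen2
  refine conj_mem_gen fun a ha => ?_
  obtain ⟨j, hj, rfl⟩ := List.mem_iff_getElem.1 ha
  obtain ⟨hsub, hsame⟩ := hall2 (L[j], (cs[i]'(hlen' ▸ hi))[j]'(hlen2' ▸ hj))
    (List.mem_iff_getElem.2 ⟨j, by rw [List.length_zip, hlen2', min_self]; exact hj, List.getElem_zip ..⟩)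
  have hw : ∀ b ∈ (cs[i]'(hlen' ▸ hi))[j]'(hlen2' ▸ hj), b < 33 := by
    intro b hb
    simp only [subL, List.all_eq_true, List.any_eq_true] at hsub
    obtain ⟨c, hc, e⟩ := hsub b hb
    rw [Nat.eq_of_beq_eq_true e]
    exact hL c hc
  have e := C.eqw _ _ (by simp [hgs _ hg, hL _ (List.getElem_mem hj)])
    (by
      intro b hb
      rcases List.mem_append.1 hb with hb | hb
      · exact hw b hb
      · rw [List.mem_singleton.1 hb]; exact hgs _ hg) hsame
  simp only [prodw_cons, prodw_append, prodw_nil, mul_one] at e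
  rw [e, mul_inv_cancel_right]
  exact prodw_mem_gen hsub

theorem card_S : Nat.card (gen x [7, 8, 9, 10, 11, 12, 13, 14, 15, 16, 17, 18, 19]) = 2 ^ 13 := by
  have := (haveI : Fact (Nat.Prime 2) := ⟨Nat.prime_two⟩; C.card_gen 2 stepsS chainS).1
  rw [letters_S, ← List.length_map (as := stepsS) Step.g, letters_S] at this
  simpa using this

theorem Q0_pgroup : IsPGroup 2 Q0 := by
  have := (haveI : Fact (Nat.Prime 2) := ⟨Nat.prime_two⟩; C.card_gen 2 (stepsS.take 7) chainQ).2
  rwa [letters_Q] at this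

theorem card_T : Nat.card (gen x [0, 20, 21, 22]) = 3 ^ 4 := by
  have := (haveI : Fact (Nat.Prime 3) := ⟨Nat.prime_three⟩; C.card_gen 3 stepsT chainT).1
  rw [letters_T, ← List.length_map (as := stepsT) Step.g, letters_T] at this
  simpa using this

theorem card_F : Nat.card (gen x [23]) = 5 := by
  have := (haveI : Fact (Nat.Prime 5) := ⟨Nat.prime_five⟩; C.card_gen 5 stepsF chainF).1
  rw [letters_F, ← List.length_map (as := stepsF) Step.g, letters_F] at this
  simpa using this

theorem card_P0 : Nat.card P0 = 3 ^ 7 := by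
  have := (haveI : Fact (Nat.Prime 3) := ⟨Nat.prime_three⟩; C.card_gen 3 stepsP chainP).1
  rw [letters_P, ← List.length_map (as := stepsP) Step.g, letters_P] at this
  simpa [P0] using this

theorem card_A0 : Nat.card A0 = 3 ^ 5 := by
  have := (haveI : Fact (Nat.Prime 3) := ⟨Nat.prime_three⟩; C.card_gen 3 (stepsP.take 5) chainA).1
  rw [letters_A, ← List.length_map (as := stepsP.take 5) Step.g, letters_A] at this
  simpa [A0] using this

theorem card_R : Nat.card (gen x [24, 25, 26, 27]) = 16 := by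
  have := (haveI : Fact (Nat.Prime 2) := ⟨Nat.prime_two⟩; C.card_gen 2 stepsR chainR).1
  rw [letters_R, ← List.length_map (as := stepsR) Step.g, letters_R] at this
  simpa using this

theorem card_H : Nat.card (gen x [28]) = 11 := by
  have := (haveI : Fact (Nat.Prime 11) := ⟨by norm_num⟩; C.card_gen 11 stepsH chainH).1
  rw [letters_H, ← List.length_map (as := stepsH) Step.g, letters_H] at this
  simpa using this

theorem card_K : Nat.card (gen x [29]) = 5 := by
  have := (haveI : Fact (Nat.Prime 5) := ⟨Nat.prime_five⟩; C.card_gen 5 stepsK chainK).1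
  rw [letters_K, ← List.length_map (as := stepsK) Step.g, letters_K] at this
  simpa using this

theorem invol_facts : z0 * z0 = 1 ∧ s0 * s0 = 1 ∧ z0 ≠ 1 ∧ s0 ≠ 1 ∧ s0 ≠ z0 ∧ x0 ≠ 1 := by
  have h := invol
  simp only [Bool.and_eq_true] at h
  obtain ⟨⟨⟨⟨⟨h1, h2⟩, h3⟩, h4⟩, h5⟩, h6⟩ := h
  have e1 := C.eqw _ _ (by simp) (by simp) h1
  have e2 := C.eqw _ _ (by simp) (by simp) h2
  have n3 := C.ne_of _ _ (by simp) (by simp) h3
  have n4 := C.ne_of _ _ (by simp) (by simp) h4
  have n5 := C.ne_of _ _ (by simp) (by simp) h5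
  have n6 := C.ne_of _ _ (by simp) (by simp) h6
  simp only [prodw, List.map_cons, List.map_nil, List.prod_cons, List.prod_nil, mul_one] at e1 e2 n3 n4 n5 n6
  exact ⟨e1, e2, n3, n4, n5, n6⟩

theorem comm_z_of {g : ℕ} (hg : g ∈ lettersC) : x g * z0 = z0 * x g :=
  C.commute_of (by decide) (by norm_num) comm_z hg

theorem gen_le_cent {L : List ℕ} (h : ∀ a ∈ L, a ∈ lettersC) :
    gen x L ≤ Subgroup.centralizer ({z0} : Set M) :=
  gen_le_iff.2 fun a ha => Subgroup.mem_centralizer_singleton_iff.2 (C.comm_z_of (h a ha))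

theorem dvd_cent : 2 ^ 13 ∣ Nat.card (Subgroup.centralizer ({z0} : Set M)) :=
  C.card_S ▸ Subgroup.card_dvd_of_le (C.gen_le_cent (by decide))

theorem Q0_le_cent : Q0 ≤ Subgroup.centralizer ({z0} : Set M) := C.gen_le_cent (by decide)

theorem cent_le_normalizer (hc : Nat.card (Subgroup.centralizer ({z0} : Set M)) = 2 ^ 13 * 405) :
    Subgroup.centralizer ({z0} : Set M) ≤ Subgroup.normalizer (Q0 : Set M) := by
  haveI := C.fin
  have hle : gen x lettersC ≤ Subgroup.centralizer ({z0} : Set M) := C.gen_le_cent fun a ha => ha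
  have h2 : 2 ^ 13 ∣ Nat.card (gen x lettersC) :=
    C.card_S ▸ Subgroup.card_dvd_of_le (gen_mono (by decide))
  have h3 : 3 ^ 4 ∣ Nat.card (gen x lettersC) :=
    C.card_T ▸ Subgroup.card_dvd_of_le (gen_mono (by decide))
  have h5 : 5 ∣ Nat.card (gen x lettersC) :=
    C.card_F ▸ Subgroup.card_dvd_of_le (gen_mono (by decide))
  have h : 2 ^ 13 * (3 ^ 4 * 5) ∣ Nat.card (gen x lettersC) :=
    Nat.Coprime.mul_dvd_of_dvd_of_dvd (by norm_num) h2 (Nat.Coprime.mul_dvd_of_dvd_of_dvd (by norm_num) h3 h5)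
  rw [← Subgroup.eq_of_le_of_card_ge hle (by
    rw [hc]; exact Nat.le_of_dvd Nat.card_pos (by simpa using h)), gen_le_iff]
  exact C.conj_gen (by decide) (by decide) conjQ_ok

theorem comm_x0 : x0 * z0 = z0 * x0 ∧ x0 * s0 = s0 * x0 := by
  refine ⟨C.comm_z_of (by decide), ?_⟩
  exact (C.commute_of (by decide) (by norm_num) comm_x (show 8 ∈ [8, 5, 6, 1, 2, 3, 4] by decide)).symm

theorem s0_mem : s0 ∈ Q0 := mem_gen (by decide)

theorem P0_le : P0 ≤ Subgroup.normalizer (Subgroup.zpowers x0 : Set M) := by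
  haveI := C.fin
  have h : P0 ≤ Subgroup.centralizer ({x0} : Set M) := gen_le_iff.2 fun a ha => by
    rw [Subgroup.mem_centralizer_singleton_iff]
    rcases List.mem_cons.1 ha with rfl | ha
    · rfl
    · exact C.commute_of (by decide) (by norm_num) comm_x
        ((show ∀ a ∈ [1, 2, 3, 4, 5, 6], a ∈ [8, 5, 6, 1, 2, 3, 4] by decide) a ha)
  refine h.trans ?_
  rw [← Subgroup.centralizer_closure, ← Subgroup.zpowers_eq_closure]
  exact Subgroup.centralizer_le_normalizer _

theorem x0_cube : x0 ^ 3 = 1 := by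
  have h := List.all_eq_true.1 cube_A 0 (by decide)
  have e := C.eqw _ _ (by simp) (by simp) h
  simpa [prodw, x0, pow_succ, mul_assoc] using e

theorem orderOf_x0 : orderOf x0 = 3 :=
  haveI : Fact (Nat.Prime 3) := ⟨Nat.prime_three⟩
  orderOf_eq_prime C.x0_cube C.invol_facts.2.2.2.2.2

theorem A0_le_P0 : A0 ≤ P0 := gen_mono (by decide)

theorem A0_comm : IsMulCommutative A0 := by
  refine ⟨⟨fun a b => Subtype.ext ?_⟩⟩
  have h : A0 ≤ Subgroup.centralizer (A0 : Set M) := by
    rw [A0, gen, Subgroup.centralizer_closure, Subgroup.closure_le]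
    rintro _ ⟨a, ha, rfl⟩
    rw [SetLike.mem_coe, Subgroup.mem_centralizer_iff]
    rintro _ ⟨b, hb, rfl⟩
    exact C.commute_of (by decide) ((show ∀ a ∈ [0, 1, 2, 3, 4], a < 33 by decide) a ha)
      (List.all_eq_true.1 comm_A a ha) hb
  exact Subgroup.mem_centralizer_iff.1 (h b.2) a a.2

theorem A0_normalizer {g : ℕ} (hg : g ∈ lettersN) : x g ∈ Subgroup.normalizer (A0 : Set M) :=
  C.conj_gen (by decide) (by decide) conjA_ok g hg

theorem dvd_normalizer : 3 ^ 7 * (16 * (11 * 5)) ∣ Nat.card (Subgroup.normalizer (A0 : Set M)) := by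
  haveI := C.fin
  have hN : ∀ {L : List ℕ}, (∀ a ∈ L, a ∈ lettersN ∨ a ∈ [0, 1, 2, 3, 4]) →
      gen x L ≤ Subgroup.normalizer (A0 : Set M) := fun {L} h => gen_le_iff.2 fun a ha => by
    rcases h a ha with h | h
    · exact C.A0_normalizer h
    · exact Subgroup.le_normalizer (mem_gen h)
  refine Nat.Coprime.mul_dvd_of_dvd_of_dvd (by norm_num) ?_ (Nat.Coprime.mul_dvd_of_dvd_of_dvd (by norm_num) ?_
    (Nat.Coprime.mul_dvd_of_dvd_of_dvd (by norm_num) ?_ ?_))
  · exact C.card_P0 ▸ Subgroup.card_dvd_of_le (hN (by decide))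
  · exact C.card_R ▸ Subgroup.card_dvd_of_le (hN (by decide))
  · exact C.card_H ▸ Subgroup.card_dvd_of_le (hN (by decide))
  · exact C.card_K ▸ Subgroup.card_dvd_of_le (hN (by decide))

end Ctx

end

end CfsgLib.SuzThree
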