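import Cfsg.Agent.SuzThree.Data
import Cfsg.Agent.MElevenUnique.Main

/-!
The eleven points of the projective space over the field with three elements and their dependent five sets.
-/

set_option autoImplicit false
set_option maxRecDepth 100000
set_option Elab.async false

namespace CfsgLib.SuzThree

/-- Coordinates. -/
abbrev V := Fin 5 → ZMod 3

/-- The vector of a code. -/
def vc (c : ℕ) : V := fun k => ((c / 3 ^ k.val % 3 : ℕ) : ZMod 3)

/-- The vector of a line. -/
def vec (i : Fin 11) : V := vc (lineCodes.getD i.val 0)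

/-- The pairing. -/
def dot (a b : V) : ZMod 3 := a 0 * b 0 + a 1 * b 1 + a 2 * b 2 + a 3 * b 3 + a 4 * b 4

/-- The five sets of points spanning a proper subspace. -/
def Blocks : Set (Finset (Fin 11)) :=
  {s | s.card = 5 ∧ AddSubgroup.closure (vec '' (s : Set (Fin 11))) ≠ ⊤}

/-- The set of a list of indices. -/
def fins (l : List ℕ) : Finset (Fin 11) := Finset.univ.filter fun i => l.any fun a => Nat.beq a i.val

/-- A listed block. -/
def blockList : List (Finset (Fin 11)) := blocks.map fun b => fins b.1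

theorem blocks_ok : ∀ b ∈ blocks, vc b.2 ≠ 0 ∧ ∀ i ∈ fins b.1, dot (vc b.2) (vec i) = 0 := by decide +kernel

/-- The combination with coefficients from a code. -/
def comb (l : List ℕ) (c : ℕ) : V := fun k =>
  ((List.range 5).map fun j => ((c / 3 ^ j % 3 : ℕ) : ZMod 3) * vc (lineCodes.getD (l.getD j 0) 0) k).sum

theorem frees_ok : ∀ b ∈ frees, b.1.length = 5 ∧ (∀ j < 5, b.1.getD j 0 < 11) ∧
    ∀ u : Fin 5, comb b.1 (b.2.getD u.val 0) = Pi.single u 1 := by decide +kernel

theorem cover_lists : ((List.range 11).sublistsLen 5).all (fun l =>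
    (blocks.any fun b => b.1 == l) || (frees.any fun b => b.1 == l)) = true := by decide +kernel

theorem cover_four_lists : ((List.range 11).sublistsLen 4).all (fun l =>
    (blocks.filter fun b => l.all fun a => b.1.any fun c => Nat.beq c a).length == 1) = true := by
  decide +kernel

theorem mem_fins {l : List ℕ} {i : Fin 11} : i ∈ fins l ↔ i.val ∈ l := by
  simp [fins]

/-- The increasing list of a set. -/
theorem exists_list (s : Finset (Fin 11)) :
    ∃ l, l ∈ (List.range 11).sublistsLen s.card ∧ fins l = s := by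
  classical
  have hval : ∀ a : ℕ, a ∈ (List.range 11).filter (fun a => decide (∃ i ∈ s, i.val = a)) ↔
      ∃ i ∈ s, i.val = a := fun a => by
    rw [List.mem_filter, decide_eq_true_iff]
    exact ⟨fun h => h.2, fun h => ⟨List.mem_range.2 (by obtain ⟨i, -, rfl⟩ := h; exact i.isLt), h⟩⟩
  refine ⟨(List.range 11).filter fun a => decide (∃ i ∈ s, i.val = a),
    List.mem_sublistsLen.2 ⟨List.filter_sublist, ?_⟩, ?_⟩
  · rw [← List.toFinset_card_of_nodup (List.nodup_range.filter _), ← Finset.card_image_of_injective s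
      Fin.val_injective]
    congr 1
    ext a
    rw [List.mem_toFinset, hval]
    simp
  · ext i
    rw [mem_fins, hval]
    exact ⟨fun ⟨j, hj, e⟩ => Fin.ext e ▸ hj, fun h => ⟨i, h, rfl⟩⟩

theorem cover (s : Finset (Fin 11)) (hs : s.card = 5) :
    s ∈ blockList ∨ ∃ b ∈ frees, s = fins b.1 := by
  obtain ⟨l, hl, rfl⟩ := exists_list s
  rw [hs] at hl
  have h := List.all_eq_true.1 cover_lists l hl
  rw [Bool.or_eq_true, List.any_eq_true, List.any_eq_true] at h
  rcases h with ⟨b, hb, e⟩ | ⟨b, hb, e⟩
  · exact Or.inl (List.mem_map.2 ⟨b, hb, by rw [eq_of_beq e]⟩)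
  · exact Or.inr ⟨b, hb, by rw [eq_of_beq e]⟩

theorem cover_four (s : Finset (Fin 11)) (hs : s.card = 4) :
    (blockList.filter fun b => decide (s ⊆ b)).length = 1 := by
  obtain ⟨l, hl, rfl⟩ := exists_list s
  rw [hs] at hl
  have h := eq_of_beq (List.all_eq_true.1 cover_four_lists l hl)
  rw [← h, blockList, List.filter_map, List.length_map]
  congr 1
  refine List.filter_congr fun b _ => ?_
  rw [Bool.eq_iff_iff]
  simp only [Function.comp, decide_eq_true_iff, List.all_eq_true, List.any_eq_true]
  have hl11 : ∀ a ∈ l, a < 11 := fun a ha => List.mem_range.1 ((List.mem_sublistsLen.1 hl).1.subset ha)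
  constructor
  · intro hsub a ha
    exact ⟨a, mem_fins.1 (hsub (mem_fins.2 (show (⟨a, hl11 a ha⟩ : Fin 11).val ∈ l from ha))), Nat.beq_refl _⟩
  · intro hall i hi
    obtain ⟨c, hc, e⟩ := hall _ (mem_fins.1 hi)
    exact mem_fins.2 (Nat.eq_of_beq_eq_true e ▸ hc)

theorem block_card : ∀ b ∈ blockList, b.card = 5 := by decide +kernel

theorem full_line : ∀ k : Fin 5, vec 5 k ≠ 0 := by decide +kernel

theorem unit_lines : ∀ k : Fin 5, vec ⟨k.val, by omega⟩ = Pi.single k 1 := by decide +kernel

theorem vec_ne : ∀ i, vec i ≠ 0 := by decide +kernel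

theorem vec_distinct : ∀ i j, (vec i = vec j ∨ vec i = - vec j) → i = j := by decide +kernel

theorem mem_Blocks_iff {s : Finset (Fin 11)} : s ∈ Blocks ↔ s ∈ blockList := by
  constructor
  · rintro ⟨hc, hne⟩
    rcases cover s hc with h | ⟨b, hb, rfl⟩
    · exact h
    exfalso
    apply hne
    obtain ⟨-, hlt, hcomb⟩ := frees_ok b hb
    obtain ⟨K, hK⟩ : ∃ K, K = AddSubgroup.closure (vec '' (fins b.1 : Set (Fin 11))) := ⟨_, rfl⟩
    rw [← hK, eq_top_iff]
    intro v _
    have hmem : ∀ j < 5, vc (lineCodes.getD (b.1.getD j 0) 0) ∈ K := by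
      intro j hj
      rw [hK]
      refine AddSubgroup.subset_closure ⟨⟨b.1.getD j 0, hlt j hj⟩, ?_, rfl⟩
      simp only [fins, Finset.coe_filter, Finset.mem_univ, true_and, Set.mem_ofPred_eq,
        List.any_eq_true]
      refine ⟨b.1.getD j 0, ?_, Nat.beq_refl _⟩
      have hlen := (frees_ok b hb).1
      rw [List.getD_eq_getElem _ _ (by omega)]
      exact List.getElem_mem _
    have hsm : ∀ (a : ZMod 3) (w : V), w ∈ K → a • w ∈ K := fun a w hw => by
      rw [show a • w = a.val • w by
        funext k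
        simp only [Pi.smul_apply, smul_eq_mul, nsmul_eq_mul, ZMod.natCast_zmod_val]]
      exact AddSubgroup.nsmul_mem K hw _
    have hunit : ∀ u : Fin 5, (Pi.single u 1 : V) ∈ K := by
      intro u
      rw [← hcomb u]
      have : comb b.1 (b.2.getD u.val 0) = ((List.range 5).map fun j =>
          ((b.2.getD u.val 0 / 3 ^ j % 3 : ℕ) : ZMod 3) • vc (lineCodes.getD (b.1.getD j 0) 0)).sum := by
        funext k
        simp [comb, List.range_succ]
      rw [this]
      refine list_sum_mem fun w hw => ?_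
      obtain ⟨j, hj, rfl⟩ := List.mem_map.1 hw
      exact hsm _ _ (hmem j (List.mem_range.1 hj))
    rw [← Finset.univ_sum_single v]
    refine sum_mem fun u _ => ?_
    have : (Pi.single u (v u) : V) = v u • (Pi.single u 1 : V) := by
      funext k
      by_cases h : k = u
      · subst h; simp
      · simp [h]
    rw [this]
    exact hsm _ _ (hunit u)
  · intro h
    refine ⟨block_card s h, fun htop => ?_⟩
    obtain ⟨b, hb, rfl⟩ := List.mem_map.1 h
    obtain ⟨hne, hdot⟩ := blocks_ok b hb
    let f : V →+ ZMod 3 :=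
      { toFun := dot (vc b.2)
        map_zero' := by simp [dot]
        map_add' := fun x y => by simp only [dot, Pi.add_apply]; ring }
    have hle : AddSubgroup.closure (vec '' (fins b.1 : Set (Fin 11))) ≤ f.ker := by
      rw [AddSubgroup.closure_le]
      rintro _ ⟨i, hi, rfl⟩
      exact hdot i hi
    rw [htop] at hle
    refine hne (funext fun k => ?_)
    have h1 : f (Pi.single k 1) = 0 := hle (AddSubgroup.mem_top _)
    change dot (vc b.2) (Pi.single k 1) = 0 at h1
    fin_cases k <;> simpa [dot] using h1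

theorem isSteinerSystem_Blocks : Cfsg.IsSteinerSystem 4 5 Blocks := by
  refine ⟨fun b hb => hb.1, fun s hs => ?_⟩
  obtain ⟨b, hb⟩ := List.length_eq_one_iff.1 (cover_four s hs)
  have hiff : ∀ c, c ∈ blockList ∧ s ⊆ c ↔ c = b := fun c => by
    rw [← List.mem_singleton, ← hb, List.mem_filter, decide_eq_true_iff]
  refine ⟨b, ⟨mem_Blocks_iff.2 ((hiff b).2 rfl).1, ((hiff b).2 rfl).2⟩, fun c hc => ?_⟩
  exact (hiff c).1 ⟨mem_Blocks_iff.1 hc.1, hc.2⟩

theorem card_aut_Blocks : Nat.card (Cfsg.setSystemAut Blocks) = 7920 :=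
  (Mathieu.S11.aut11 (by simp) isSteinerSystem_Blocks).1.2

theorem nonempty_aut_Blocks : Nonempty (Cfsg.setSystemAut Blocks ≃* ↥Cfsg.Spor.M11) :=
  MElevenUnique.nonempty_mulEquiv_SporM11 (Mathieu.S11.aut11 (by simp) isSteinerSystem_Blocks).1.1
    card_aut_Blocks

end CfsgLib.SuzThree
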