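import Cfsg.Agent.SuzType.Fusion
import Cfsg.Agent.SuzType.Sylow

/-!
Facts on a group of Suzuki type used for its three-local step: involutions with a Sylow two-subgroup
in their centraliser, and the subgroups of order three acting on `Q` with commutator of order eight.
-/

set_option autoImplicit false
set_option linter.style.haveILetI false

namespace CfsgLib.SuzThree

open CfsgLib.SuzType CfsgLib.LargeExtraspecial

variable {G : Type*} [Group G] [Finite G]

/-- A two-subgroup of `C` normalised by `C` lies in `F*(C)`. -/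
theorem le_map_of_normalised {C R : Subgroup G} {Q : Subgroup C}
    (hF : Cfsg.generalizedFittingSubgroup C = Q) (hR : IsPGroup 2 R) (hRC : R ≤ C)
    (hn : C ≤ Subgroup.normalizer (R : Set G)) : R ≤ Q.map C.subtype := by
  haveI := Fact.mk Nat.prime_two
  have h1 : (R.subgroupOf C).Normal := (Subgroup.normal_subgroupOf_iff_le_normalizer hRC).2 hn
  have h2 : IsPGroup 2 (R.subgroupOf C) := hR.comap_subtype
  have h3 : R.subgroupOf C ≤ Q := by
    rw [← hF]
    exact (le_sSup (show R.subgroupOf C ∈ {N : Subgroup C | N.Normal ∧ Group.IsNilpotent N} from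
      ⟨h1, h2.isNilpotent⟩)).trans le_sup_right
  intro r hr
  exact ⟨⟨r, hRC hr⟩, h3 hr, rfl⟩

/-- A three-dimensional space contains a nonzero singular vector. -/
theorem exists_singular {S : Finset V6} (hS : 8 ≤ S.card)
    (hadd : ∀ a ∈ S, ∀ b ∈ S, a + b ∈ S) : ∃ v ∈ S, v ≠ 0 ∧ q6 v = false := by
  by_contra hno
  push Not at hno
  have ht : ∀ v ∈ S, v ≠ 0 → q6 v = true := fun v hv h0 => by
    cases h : q6 v
    · exact absurd h (hno v hv h0)
    · rfl
  have pick : ∀ T : Finset V6, T.card < 8 → ∃ x ∈ S, x ∉ T := fun T hT =>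
    Finset.exists_mem_notMem_of_card_lt_card (by omega)
  have small : ∀ l : List V6, l.length < 8 → ∃ x ∈ S, x ∉ l := fun l hl => by
    obtain ⟨x, hx, hxl⟩ := pick l.toFinset (lt_of_le_of_lt l.toFinset_card_le hl)
    exact ⟨x, hx, fun h => hxl (List.mem_toFinset.2 h)⟩
  obtain ⟨u, hu, hu'⟩ := small [0] (by simp)
  obtain ⟨v, hv, hv'⟩ := small [0, u] (by simp)
  obtain ⟨w, hw, hw'⟩ := small [0, u, v, u + v] (by simp)
  simp only [List.mem_cons, List.not_mem_nil, or_false, not_or] at hu' hv' hw'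
  obtain ⟨hv0, hvu⟩ := hv'
  obtain ⟨hw0, hwu, hwv, hwuv⟩ := hw'
  have key : ∀ a b : V6, a ≠ b → a + b ≠ 0 := fun a b h e => h (eq_of_add_eq_zero6 e)
  have hvw : v + w ≠ 0 := key _ _ fun e => hwv e.symm
  have huvw : u + (v + w) ≠ 0 := key _ _ fun e => hwuv (by rw [e, add_comm v w, add_assoc, add_self6, add_zero])
  have b1 := ht _ (hadd _ hu _ hv) (key _ _ fun e => hvu e.symm)
  have b2 := ht _ (hadd _ hu _ hw) (key _ _ fun e => hwu e.symm)
  have b3 := ht _ (hadd _ hv _ hw) hvw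
  have b4 := ht _ (hadd _ hu _ (hadd _ hv _ hw)) huvw
  rw [q6_add, ht _ hu hu', ht _ hv hv0] at b1
  rw [q6_add, ht _ hu hu', ht _ hw hw0] at b2
  rw [q6_add, ht _ hu hu', b3, b6_add_right] at b4
  cases h1 : b6 u v <;> cases h2 : b6 u w <;> simp_all

variable {z : G} {Q : Subgroup G} {π : G → V6}

/-- An involution whose centraliser contains a Sylow two-subgroup is conjugate to `z`. -/
theorem isConj_z_of_dvd (D : Data z Q π) (h13 : (Nat.card G).factorization 2 = 13) {y : G}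
    (h1 : y ≠ 1) (hd : 2 ^ 13 ∣ Nat.card (Subgroup.centralizer ({y} : Set G))) :
    IsConj z y := by
  haveI := Fact.mk Nat.prime_two
  obtain ⟨Sy, hSy⟩ := Sylow.exists_subgroup_card_pow_prime 2 hd
  have hSy' : Nat.card (Sy.map (Subgroup.centralizer ({y} : Set G)).subtype) = 2 ^ 13 := by
    rw [Subgroup.card_map_of_injective (Subgroup.subtype_injective _), hSy]
  have hQC : Q ≤ Subgroup.centralizer ({z} : Set G) := fun q hq =>
    Subgroup.mem_centralizer_singleton_iff.2 (D.sub.z_comm hq)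
  have hQp : IsPGroup 2 (Q.subgroupOf (Subgroup.centralizer ({z} : Set G))) :=
    (IsPGroup.of_card (n := 7) (by rw [D.card]; norm_num) : IsPGroup 2 Q).comap_subtype
  obtain ⟨S, hQS⟩ := hQp.exists_le_sylow
  have hfac : (Nat.card (Subgroup.centralizer ({z} : Set G))).factorization 2 = 13 := by
    rw [D.card_cent, Nat.factorization_mul (by norm_num) (by norm_num), Finsupp.add_apply,
      Nat.Prime.factorization_pow Nat.prime_two, Finsupp.single_eq_same,
      Nat.factorization_eq_zero_of_not_dvd (by norm_num : ¬ 2 ∣ 405)]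
  have hS : Nat.card ((S : Subgroup _).map (Subgroup.centralizer ({z} : Set G)).subtype) = 2 ^ 13 := by
    rw [Subgroup.card_map_of_injective (Subgroup.subtype_injective _), S.card_eq_multiplicity, hfac]
  let T1 : Sylow 2 G := Sylow.ofCard _ (by rw [hSy', h13])
  let T2 : Sylow 2 G := Sylow.ofCard _ (by rw [hS, h13])
  obtain ⟨g, hg⟩ := MulAction.exists_smul_eq G T1 T2
  have hcomm : ∀ q ∈ Q, q * (g * y * g⁻¹) = (g * y * g⁻¹) * q := fun q hq => by
    have hq' : q ∈ (T2 : Subgroup G) := ⟨⟨q, hQC hq⟩, hQS hq, rfl⟩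
    rw [← hg] at hq'
    obtain ⟨r, hr, hrq⟩ := hq'
    obtain ⟨r', -, rfl⟩ := hr
    have e := Subgroup.mem_centralizer_singleton_iff.1 r'.2
    have := (Commute.conj_iff g).2 (show Commute (r' : G) y from e)
    rw [show g * (r' : G) * g⁻¹ = q from hrq] at this
    exact this.eq
  have hmem : g * y * g⁻¹ ∈ Subgroup.centralizer (Q : Set G) := Subgroup.mem_centralizer_iff.2 hcomm
  rw [D.sub.centralizer_eq] at hmem
  rcases D.sub.eq_or_eq hmem with e | e
  · exact absurd (conj_eq_one_iff.1 e) h1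
  · exact (isConj_iff.2 ⟨g, e⟩).symm

variable {s : G} {P : Subgroup G}

/-- An element of order three with small commutator centralises an involution of `Q` other than `z`. -/
theorem exists_invol_comm (D : Data z Q π) {X : Subgroup G} {x : G} (hxX : x ∈ X)
    (h8 : Nat.card ↥(⁅Q, X⁆ : Subgroup G) = 8) :
    ∃ a ∈ Q, a * a = 1 ∧ a ≠ 1 ∧ a ≠ z ∧ x * a = a * x := by
  classical
  haveI : Fintype G := Fintype.ofFinite G
  let CQ : Finset G := Finset.univ.filter fun q => q ∈ Q ∧ x * q = q * x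
  have hQ : (Finset.univ.filter fun q : G => q ∈ Q).card = 128 := by
    rw [← D.card, ← Fintype.card_subtype, Nat.card_eq_fintype_card]
  let f : G → G := fun q => q * x * q⁻¹ * x⁻¹
  have h8' : ((Finset.univ.filter fun q : G => q ∈ Q).image f).card ≤ 8 := by
    rw [← h8, Nat.card_eq_fintype_card, Fintype.card_subtype]
    refine Finset.card_le_card fun b hb => ?_
    obtain ⟨q, hq, rfl⟩ := Finset.mem_image.1 hb
    exact Finset.mem_filter.2 ⟨Finset.mem_univ _,
      Subgroup.commutator_mem_commutator (Finset.mem_filter.1 hq).2 hxX⟩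
  have h16 : 16 ≤ CQ.card := by
    have := Finset.card_le_mul_card_image (f := f) (Finset.univ.filter fun q : G => q ∈ Q) CQ.card
      (fun b hb => ?_)
    · rw [hQ] at this
      have h := this.trans (Nat.mul_le_mul_left _ h8')
      omega
    obtain ⟨q₀, hq₀, rfl⟩ := Finset.mem_image.1 hb
    refine Finset.card_le_card_of_injOn (fun q => q₀⁻¹ * q) (fun q hq => ?_)
      (fun a _ b _ h => mul_left_cancel h)
    obtain ⟨hq1, hq2⟩ := Finset.mem_filter.1 hq
    refine Finset.mem_filter.2 ⟨Finset.mem_univ _, mul_mem (inv_mem (Finset.mem_filter.1 hq₀).2)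
      (Finset.mem_filter.1 hq1).2, ?_⟩
    have e : q * x * q⁻¹ = q₀ * x * q₀⁻¹ := mul_right_cancel (b := x⁻¹) hq2
    calc x * (q₀⁻¹ * q) = q₀⁻¹ * (q₀ * x * q₀⁻¹) * q := by group
      _ = q₀⁻¹ * q * x := by rw [← e]; group
  have hS : 8 ≤ (CQ.image π).card := by
    have := Finset.card_le_mul_card_image (f := π) CQ 2 (fun b hb => ?_)
    · omega
    obtain ⟨q₀, hq₀, rfl⟩ := Finset.mem_image.1 hb
    refine le_trans (Finset.card_le_card (t := {q₀, z * q₀}) fun q hq => ?_) Finset.card_le_two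
    obtain ⟨hq1, hq2⟩ := Finset.mem_filter.1 hq
    rcases D.eq_or_eq_of_π_eq (Finset.mem_filter.1 hq₀).2.1 (Finset.mem_filter.1 hq1).2.1 hq2.symm with e | e <;>
      simp [e]
  obtain ⟨v, hv, hv0, hvq⟩ := exists_singular hS fun a ha b hb => by
    obtain ⟨p, hp, rfl⟩ := Finset.mem_image.1 ha
    obtain ⟨r, hr, rfl⟩ := Finset.mem_image.1 hb
    obtain ⟨-, hp1, hp2⟩ := Finset.mem_filter.1 hp
    obtain ⟨-, hr1, hr2⟩ := Finset.mem_filter.1 hr
    refine Finset.mem_image.2 ⟨p * r, Finset.mem_filter.2 ⟨Finset.mem_univ _, mul_mem hp1 hr1,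
      (Commute.mul_right (show Commute x p from hp2) hr2).eq⟩, D.map_mul p hp1 r hr1⟩
  obtain ⟨a, ha, rfl⟩ := Finset.mem_image.1 hv
  obtain ⟨-, ha1, ha2⟩ := Finset.mem_filter.1 ha
  exact ⟨a, ha1, (D.sq a ha1).2 hvq, fun e => hv0 (by rw [e, D.π_one]),
    fun e => hv0 (by rw [e, D.π_z]), ha2⟩

/-- Subgroups of order three of `C(z)` centralising involutions of `Q` other than `z` are conjugate
under `C(z)`. -/
theorem exists_conj_three (F : Frame z Q π P s) {x1 x2 a1 a2 : G}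
    (h1 : orderOf x1 = 3) (hz1 : x1 * z = z * x1) (hc1 : x1 * a1 = a1 * x1)
    (ha1 : a1 ∈ Q) (hi1 : a1 * a1 = 1) (hn1 : a1 ≠ 1) (hne1 : a1 ≠ z)
    (h2 : orderOf x2 = 3) (hz2 : x2 * z = z * x2) (hc2 : x2 * a2 = a2 * x2)
    (ha2 : a2 ∈ Q) (hi2 : a2 * a2 = 1) (hn2 : a2 ≠ 1) (hne2 : a2 ≠ z) :
    ∃ g, g * z = z * g ∧
      (Subgroup.zpowers x1).map (MulAut.conj g).toMonoidHom = Subgroup.zpowers x2 := by
  classical
  haveI : Fact (Nat.Prime 3) := ⟨Nat.prime_three⟩
  obtain ⟨H, hH⟩ : ∃ H, H = Subgroup.centralizer ({z, s} : Set G) := ⟨_, rfl⟩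
  have hmem : ∀ {c : G}, c ∈ H ↔ c * z = z * c ∧ c * s = s * c := fun {c} => by
    rw [hH, Subgroup.mem_centralizer_iff]
    simp only [Set.mem_insert_iff, Set.mem_singleton_iff, forall_eq_or_imp, forall_eq]
    exact and_congr eq_comm eq_comm
  have hfac : (Nat.card H).factorization 3 = 1 := by
    rw [hH, F.card_cent_zs, show (61440 : ℕ) = 3 * 20480 by norm_num,
      Nat.factorization_mul (by norm_num) (by norm_num), Finsupp.add_apply,
      Nat.Prime.factorization_self Nat.prime_three,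
      Nat.factorization_eq_zero_of_not_dvd (by norm_num : ¬ 3 ∣ 20480)]
  have red : ∀ {x a : G}, x * z = z * x → x * a = a * x → a ∈ Q → a * a = 1 → a ≠ 1 → a ≠ z →
      ∃ c, c * z = z * c ∧ c⁻¹ * x * c ∈ H := by
    intro x a hxz hxa ha hi hn hne
    obtain ⟨c, hc, hcs⟩ := F.exists_conj_s ha hi hn hne
    have hc' : Commute c⁻¹ z := Commute.inv_left hc
    refine ⟨c, hc, hmem.2 ⟨((hc'.mul_left hxz).mul_left hc).eq, ?_⟩⟩
    rw [← hcs] at hxa
    calc c⁻¹ * x * c * s = c⁻¹ * (x * (c * s * c⁻¹)) * c := by group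
      _ = s * (c⁻¹ * x * c) := by rw [hxa]; group
  obtain ⟨c1, hcz1, hm1⟩ := red hz1 hc1 ha1 hi1 hn1 hne1
  obtain ⟨c2, hcz2, hm2⟩ := red hz2 hc2 ha2 hi2 hn2 hne2
  have hord : ∀ {x c : G}, orderOf x = 3 → ∀ hm : c⁻¹ * x * c ∈ H,
      Nat.card (Subgroup.zpowers (⟨_, hm⟩ : H)) = 3 ^ (Nat.card H).factorization 3 := by
    intro x c hx hm
    rw [hfac, pow_one, Nat.card_zpowers, Subgroup.orderOf_mk]
    have := MulEquiv.orderOf_eq (MulAut.conj c⁻¹) x
    simpa [hx] using this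
  let S1 : Sylow 3 H := Sylow.ofCard _ (hord h1 hm1)
  let S2 : Sylow 3 H := Sylow.ofCard _ (hord h2 hm2)
  obtain ⟨d, hd⟩ := MulAction.exists_smul_eq H S1 S2
  have hd' : (d : H) * ⟨_, hm1⟩ * d⁻¹ ∈ Subgroup.zpowers (⟨_, hm2⟩ : H) := by
    show _ ∈ (S2 : Subgroup H)
    rw [← hd]
    exact ⟨_, Subgroup.mem_zpowers _, rfl⟩
  obtain ⟨k, hk⟩ := Subgroup.mem_zpowers_iff.1 hd'
  have hk' : (c2⁻¹ * x2 * c2) ^ k = (d : G) * (c1⁻¹ * x1 * c1) * (d : G)⁻¹ := by
    simpa using congrArg Subtype.val hk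
  have hz' : Commute ((c2 * (d : G)) * c1⁻¹) z :=
    ((show Commute c2 z from hcz2).mul_left (hmem.1 d.2).1).mul_left (Commute.inv_left hcz1)
  refine ⟨c2 * d * c1⁻¹, hz'.eq, ?_⟩
  have hg : (c2 * d * c1⁻¹) * x1 * (c2 * d * c1⁻¹)⁻¹ = x2 ^ k := by
    calc _ = c2 * ((d : G) * (c1⁻¹ * x1 * c1) * (d : G)⁻¹) * c2⁻¹ := by group
      _ = (MulAut.conj c2) ((c2⁻¹ * x2 * c2) ^ k) := by rw [hk']; rfl
      _ = x2 ^ k := by
        rw [map_zpow]
        congr 1
        rw [MulAut.conj_apply]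
        group
  rw [MonoidHom.map_zpowers]
  refine Subgroup.eq_of_le_of_card_ge (Subgroup.zpowers_le.2 ?_) (le_of_eq ?_)
  · exact ⟨k, hg.symm⟩
  · rw [Nat.card_zpowers, Nat.card_zpowers, h2]
    exact ((MulEquiv.orderOf_eq (MulAut.conj _) x1).trans h1).symm

end CfsgLib.SuzThree
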