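import Cfsg.Agent.SuzThree.Groups
import Cfsg.Agent.SuzThree.Lines

/-!
The abelian group of order `3 ^ 5` is self centralising and its normaliser induces `M11`.
-/

set_option autoImplicit false
set_option maxRecDepth 100000
set_option linter.style.haveILetI false

namespace CfsgLib.SuzThree

open CfsgLib.CosetEnum CfsgLib.PresentedOut

noncomputable section

theorem combU : (sameOn tb bs [30] [0, 1] && sameOn tb bs [31] [2, 3] && sameOn tb bs [32] [4, 1]) = true := by
  decide +kernel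

/-- The code of a vector. -/
def code (v : V) : ℕ := (v 0).val + 3 * (v 1).val + 9 * (v 2).val + 27 * (v 3).val + 81 * (v 4).val

theorem code_spec : ∀ v : V, code v < 243 ∧ vc (code v) = v ∧
    dg (code v) 0 = (v 0).val ∧ dg (code v) 1 = (v 1).val ∧ dg (code v) 2 = (v 2).val ∧
    dg (code v) 3 = (v 3).val ∧ dg (code v) 4 = (v 4).val := by
  decide +kernel

theorem vc_negC : ∀ c < 243, vc (negC c) = - vc c := by decide +kernel

theorem vc_code_inj : ∀ c < 243, code (vc c) = c := by decide +kernel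

theorem lineCodes_lt : ∀ l ∈ lineCodes, l < 243 ∧ ∃ i : Fin 11, lineCodes.getD i.val 0 = l := by
  decide +kernel

theorem sign_cases : ∀ a b : ZMod 3, b ≠ 0 → a * b = b → a = 1 := by decide

/-- The element of a vector. -/
def fe (v : V) : M :=
  x 0 ^ (v 0).val * x 1 ^ (v 1).val * x 2 ^ (v 2).val * x 3 ^ (v 3).val * x 4 ^ (v 4).val

theorem fe_eq_aw (v : V) : fe v = prodw x (aw (code v)) := by
  obtain ⟨-, -, h0, h1, h2, h3, h4⟩ := code_spec v
  simp only [aw, prodw_append, prodw_const, h0, h1, h2, h3, h4, fe]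

theorem aw_lt (c : ℕ) : ∀ a ∈ aw c, a < 33 := by
  intro a ha
  simp only [aw, List.mem_append] at ha
  rcases ha with (((h | h) | h) | h) | h <;> rw [List.eq_of_mem_replicate h] <;> norm_num

theorem pow_val_add {G : Type*} [Group G] {a : G} (h : a ^ 3 = 1) (s t : ZMod 3) :
    a ^ (s + t).val = a ^ s.val * a ^ t.val := by
  rw [ZMod.val_add, ← pow_add]
  exact (pow_eq_pow_mod _ h).symm

theorem mem_iff_mem_map {G : Type*} [Group G] {A : Subgroup G} {g a : G}
    (hg : g ∈ Subgroup.normalizer (A : Set G)) (ha : a ∈ A) : g * a * g⁻¹ ∈ A :=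
  (Subgroup.mem_normalizer_iff.1 hg a).1 ha

namespace Ctx

variable (C : Ctx)
include C

theorem cube {a : ℕ} (ha : a < 5) : x a ^ 3 = 1 := by
  have h := List.all_eq_true.1 cube_A a (by simp; omega)
  have e := C.eqw _ _ (by simp; omega) (by simp) h
  simpa [prodw, pow_succ, mul_assoc] using e

theorem comm {a b : ℕ} (ha : a < 5) (hb : b < 5) : Commute (x a) (x b) :=
  C.commute_of (gs := [0, 1, 2, 3, 4]) (by decide) (by omega)
    (List.all_eq_true.1 comm_A b (by simp; omega)) (by simp; omega)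

theorem fe_mem (v : V) : fe v ∈ A0 := by
  refine mul_mem (mul_mem (mul_mem (mul_mem ?_ ?_) ?_) ?_) ?_ <;>
    exact pow_mem (mem_gen (by decide)) _

theorem fe_add (v w : V) : fe (v + w) = fe v * fe w := by
  simp only [fe, Pi.add_apply, pow_val_add (C.cube (show 0 < 5 by norm_num)),
    pow_val_add (C.cube (show 1 < 5 by norm_num)), pow_val_add (C.cube (show 2 < 5 by norm_num)),
    pow_val_add (C.cube (show 3 < 5 by norm_num)), pow_val_add (C.cube (show 4 < 5 by norm_num))]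
  have c : ∀ {a b : ℕ}, a < 5 → b < 5 → ∀ m k : ℕ, Commute (x a ^ m) (x b ^ k) := fun ha hb m k =>
    (C.comm ha hb).pow_pow m k
  have h1 : ∀ m k, Commute (x 0 ^ m) (x 1 ^ k) := c (by norm_num) (by norm_num)
  generalize hp : (v 0).val = p0, (w 0).val = q0, (v 1).val = p1, (w 1).val = q1, (v 2).val = p2,
    (w 2).val = q2, (v 3).val = p3, (w 3).val = q3, (v 4).val = p4, (w 4).val = q4
  have k1 : ∀ m, Commute (x 1 ^ m) (x 0 ^ q0) := fun m => c (by norm_num) (by norm_num) _ _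
  have e1 : Commute (x 0 ^ p0 * x 1 ^ p1 * x 2 ^ p2 * x 3 ^ p3) (x 4 ^ q4) :=
    (((c (by norm_num) (by norm_num) _ _).mul_left (c (by norm_num) (by norm_num) _ _)).mul_left
      (c (by norm_num) (by norm_num) _ _)).mul_left (c (by norm_num) (by norm_num) _ _)
  have f4 : Commute (x 4 ^ p4) (x 0 ^ q0 * x 1 ^ q1 * x 2 ^ q2 * x 3 ^ q3) :=
    (((c (by norm_num) (by norm_num) _ _).mul_right (c (by norm_num) (by norm_num) _ _)).mul_right
      (c (by norm_num) (by norm_num) _ _)).mul_right (c (by norm_num) (by norm_num) _ _)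
  have f3 : Commute (x 3 ^ p3) (x 0 ^ q0 * x 1 ^ q1 * x 2 ^ q2) :=
    ((c (by norm_num) (by norm_num) _ _).mul_right (c (by norm_num) (by norm_num) _ _)).mul_right
      (c (by norm_num) (by norm_num) _ _)
  have f2 : Commute (x 2 ^ p2) (x 0 ^ q0 * x 1 ^ q1) :=
    (c (by norm_num) (by norm_num) _ _).mul_right (c (by norm_num) (by norm_num) _ _)
  rw [f4.mul_mul_mul_comm, f3.mul_mul_mul_comm, f2.mul_mul_mul_comm, (k1 p1).mul_mul_mul_comm]

/-- The coordinates on the abelian group. -/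
def feHom : Multiplicative V →* M where
  toFun v := fe (Multiplicative.toAdd v)
  map_one' := by simp [fe]
  map_mul' v w := C.fe_add _ _

theorem fe_zero : fe 0 = 1 := by simp [fe]

theorem fe_neg (v : V) : fe (-v) = (fe v)⁻¹ := by
  refine eq_inv_of_mul_eq_one_left ?_
  rw [← C.fe_add, neg_add_cancel, C.fe_zero]

theorem range_feHom : C.feHom.range = A0 := by
  refine le_antisymm ?_ (gen_le_iff.2 fun a ha => ?_)
  · rintro _ ⟨v, rfl⟩
    exact C.fe_mem _
  · refine ⟨Multiplicative.ofAdd (fun k : Fin 5 => if k.val = a then 1 else 0), ?_⟩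
    show fe _ = _
    simp only [List.mem_cons, List.not_mem_nil, or_false] at ha
    rcases ha with rfl | rfl | rfl | rfl | rfl <;> simp [fe, ZMod.val_one]

theorem fe_injective : Function.Injective fe := by
  haveI := C.fin
  have hb : Function.Bijective C.feHom.rangeRestrict := by
    rw [Nat.bijective_iff_surjective_and_card]
    refine ⟨C.feHom.rangeRestrict_surjective, ?_⟩
    rw [C.range_feHom, C.card_A0]
    simp
  intro v w h
  exact Multiplicative.ofAdd.injective (hb.1 (Subtype.ext h : C.feHom.rangeRestrict (.ofAdd v) =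
    C.feHom.rangeRestrict (.ofAdd w)))

theorem exists_fe {a : M} (ha : a ∈ A0) : ∃ v, fe v = a := by
  rw [← C.range_feHom] at ha
  exact ⟨_, ha.choose_spec⟩

/-- The nontrivial elements with a fixed point lie on the eleven lines. -/
theorem fe_fixed {v : V} (hv : v ≠ 0) (j : Fin 1782) (h : img C.φ (fe v) j = j) :
    ∃ i : Fin 11, v = vec i ∨ v = - vec i := by
  obtain ⟨hlt, hvc, -⟩ := code_spec v
  have hs := List.all_eq_true.1 special (code v) (List.mem_range.2 hlt)
  simp only [Bool.or_eq_true, List.any_eq_true] at hs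
  rcases hs with (h0 | ⟨l, hl, e⟩) | hm
  · exfalso
    apply hv
    rw [← hvc, Nat.eq_of_beq_eq_true h0]
    funext k
    simp [vc]
  · obtain ⟨hl243, i, rfl⟩ := lineCodes_lt l hl
    refine ⟨i, ?_⟩
    rcases e with e | e
    · exact Or.inl (by rw [← hvc, Nat.eq_of_beq_eq_true e]; rfl)
    · exact Or.inr (by rw [← hvc, Nat.eq_of_beq_eq_true e, vc_negC _ hl243]; rfl)
  · exfalso
    have h1 := allR_spec 11 0 hm j.val (Nat.zero_le _) (by omega)
    unfold movesEntry at h1
    rw [show Nat.blt j.val 1782 = true by simp, cond_true, Bool.not_eq_true'] at h1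
    have h2 := img_prodw C.tables (aw (code v)) (aw_lt _) j
    rw [← fe_eq_aw, h] at h2
    rw [← h2, Nat.beq_refl] at h1
    exact Bool.noConfusion h1

theorem vec_fixed (i : Fin 11) : ∃ j : Fin 1782, img C.φ (fe (vec i)) j = j := by
  have h := List.all_eq_true.1 lineFix_ok i.val (List.mem_range.2 i.isLt)
  simp only [Bool.and_eq_true] at h
  obtain ⟨⟨⟨hlt, hfix⟩, hc⟩, -⟩ := h
  refine ⟨⟨lineFix.getD i.val 0, Nat.le_of_ble_eq_true hlt⟩, Fin.ext ?_⟩
  rw [fe_eq_aw, show code (vec i) = lineCodes.getD i.val 0 from vc_code_inj _ (Nat.le_of_ble_eq_true hc),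
    img_prodw C.tables _ (aw_lt _)]
  have := List.all_eq_true.1 hfix _ (List.mem_singleton_self _)
  exact Nat.eq_of_beq_eq_true this

theorem mem_A0_of_commute {g : M} (h : ∀ a < 5, Commute g (x a)) : g ∈ A0 := by
  have hU : combU = combU := rfl
  have h' := combU
  simp only [Bool.and_eq_true] at h'
  obtain ⟨⟨u1, u2⟩, u3⟩ := h'
  have e1 := C.eqw _ _ (by simp) (by simp) u1
  have e2 := C.eqw _ _ (by simp) (by simp) u2
  have e3 := C.eqw _ _ (by simp) (by simp) u3
  simp only [prodw, List.map_cons, List.map_nil, List.prod_cons, List.prod_nil, mul_one] at e1 e2 e3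
  have hall : ∀ U ∈ Us, ∃ k < 33, tb k = U ∧ Commute g (x k) := by
    intro U hU
    simp only [Us, List.mem_cons, List.not_mem_nil, or_false] at hU
    rcases hU with rfl | rfl | rfl | rfl | rfl | rfl | rfl | rfl
    · exact ⟨0, by norm_num, rfl, h 0 (by norm_num)⟩
    · exact ⟨1, by norm_num, rfl, h 1 (by norm_num)⟩
    · exact ⟨2, by norm_num, rfl, h 2 (by norm_num)⟩
    · exact ⟨3, by norm_num, rfl, h 3 (by norm_num)⟩
    · exact ⟨4, by norm_num, rfl, h 4 (by norm_num)⟩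
    · exact ⟨30, by norm_num, rfl, e1 ▸ (h 0 (by norm_num)).mul_right (h 1 (by norm_num))⟩
    · exact ⟨31, by norm_num, rfl, e2 ▸ (h 2 (by norm_num)).mul_right (h 3 (by norm_num))⟩
    · exact ⟨32, by norm_num, rfl, e3 ▸ (h 4 (by norm_num)).mul_right (h 1 (by norm_num))⟩
  have hmove : ∀ U ∈ Us, ∀ i : Fin 1782, ∃ i' : Fin 1782, ext U i = i'.val ∧
      ext U (img C.φ g i) = (img C.φ g i').val := by
    intro U hU i
    obtain ⟨k, hk, rfl, hc⟩ := hall U hU
    refine ⟨img C.φ (x k) i, (C.tables k hk i).symm, ?_⟩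
    rw [← img_mul, ← hc.eq, img_mul]
    exact (C.tables k hk _).symm
  have hsame : ∀ i j : Fin 1782,
      sameU CfsgLib.PresentedOut.Suz.R Us i j (img C.φ g i) (img C.φ g j) = true := by
    intro i j
    simp only [sameU, Bool.and_eq_true, List.all_eq_true, force_eq]
    refine ⟨by rw [C.inv g i j]; exact Nat.beq_refl _, fun U hU => ?_⟩
    obtain ⟨i', hi, hi'⟩ := hmove U hU i
    obtain ⟨j', hj, hj'⟩ := hmove U hU j
    rw [hi, hi', hj, hj', C.inv g i j', C.inv g i' j]
    exact ⟨Nat.beq_refl _, Nat.beq_refl _⟩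
  have hmem : ∀ {b : ℕ} {L : List ℕ} (hb : b < 1782),
      allR (profU CfsgLib.PresentedOut.Suz.R 1782 Us b L) 11 0 = true →
      ∃ q ∈ L, q = (img C.φ g ⟨b, hb⟩).val := by
    intro b L hb hp
    have h' := allR_spec 11 0 hp (img C.φ g ⟨b, hb⟩).val (Nat.zero_le _)
      (by have := (img C.φ g ⟨b, hb⟩).isLt; omega)
    unfold profU at h'
    rw [show Nat.blt (img C.φ g ⟨b, hb⟩).val 1782 = true by simp, cond_true,
      hsame ⟨b, hb⟩ ⟨b, hb⟩, Bool.not_true, Bool.false_or, memN, List.any_eq_true] at h'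
    obtain ⟨q, hq, he⟩ := h'
    exact ⟨q, hq, Nat.eq_of_beq_eq_true he⟩
  obtain ⟨q0, m0, r0⟩ := hmem (show 0 < 1782 by norm_num) profC0
  obtain ⟨q1, m1, r1⟩ := hmem (show 1 < 1782 by norm_num) profC1
  obtain ⟨q2, m2, r2⟩ := hmem (show 2 < 1782 by norm_num) profC2
  obtain ⟨q3, m3, r3⟩ := hmem (show 380 < 1782 by norm_num) profC3
  have hs := searchC
  simp only [searchU, List.all_eq_true, Bool.or_eq_true, Bool.not_eq_true'] at hs
  have s01 := hsame ⟨0, by norm_num⟩ ⟨1, by norm_num⟩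
  have s02 := hsame ⟨0, by norm_num⟩ ⟨2, by norm_num⟩
  have s03 := hsame ⟨0, by norm_num⟩ ⟨380, by norm_num⟩
  have s12 := hsame ⟨1, by norm_num⟩ ⟨2, by norm_num⟩
  have s13 := hsame ⟨1, by norm_num⟩ ⟨380, by norm_num⟩
  have s23 := hsame ⟨2, by norm_num⟩ ⟨380, by norm_num⟩
  simp only [← r0, ← r1, ← r2, ← r3] at s01 s02 s03 s12 s13 s23
  have t1 := (hs q0 m0 q1 m1).resolve_left (by rw [s01]; simp)
  have t2 := (t1 q2 m2).resolve_left (by rw [s02, s12]; simp)
  have t3 := (t2 q3 m3).resolve_left (by rw [s03, s13, s23]; simp)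
  simp only [List.any_eq_true, Bool.and_eq_true] at t3
  obtain ⟨c, -, ⟨⟨⟨w0, w1⟩, w2⟩, w3⟩⟩ := t3
  have hg : g = prodw x (aw c) := C.base _ _ fun i hi => Fin.ext (by
    rw [img_prodw C.tables _ (aw_lt _)]
    simp only [bs, List.mem_cons, List.not_mem_nil, or_false] at hi
    rcases hi with e | e | e | e
    · rw [show i = ⟨0, by norm_num⟩ from Fin.ext e, ← r0]; exact (Nat.eq_of_beq_eq_true w0).symm
    · rw [show i = ⟨1, by norm_num⟩ from Fin.ext e, ← r1]; exact (Nat.eq_of_beq_eq_true w1).symm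
    · rw [show i = ⟨2, by norm_num⟩ from Fin.ext e, ← r2]; exact (Nat.eq_of_beq_eq_true w2).symm
    · rw [show i = ⟨380, by norm_num⟩ from Fin.ext e, ← r3]; exact (Nat.eq_of_beq_eq_true w3).symm)
  rw [hg]
  simp only [aw, prodw_append, prodw_const]
  refine mul_mem (mul_mem (mul_mem (mul_mem ?_ ?_) ?_) ?_) ?_ <;> exact pow_mem (mem_gen (by decide)) _

theorem centralizer_A0 : Subgroup.centralizer (A0 : Set M) = A0 := by
  refine le_antisymm (fun g hg => C.mem_A0_of_commute fun a ha => ?_) ?_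
  · exact (Subgroup.mem_centralizer_iff.1 hg (x a) (mem_gen (by simp; omega))).symm
  · haveI := C.A0_comm
    exact Subgroup.le_centralizer A0

/-- No element inverts the whole group. -/
theorem not_inverts (g : M) (h : ∀ a ∈ A0, g * a * g⁻¹ = a⁻¹) : False := by
  haveI := C.fin
  obtain ⟨k, hk⟩ : ∃ k : M, k = x 28 := ⟨_, rfl⟩
  have hkN : k ∈ Subgroup.normalizer (A0 : Set M) := hk ▸ C.A0_normalizer (by decide)
  have hgen : gen x [28] = Subgroup.zpowers k := by
    rw [gen, Subgroup.zpowers_eq_closure, hk]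
    congr 1
    ext y
    simp
  have hk11 : orderOf k = 11 := by rw [← Nat.card_zpowers, ← hgen, C.card_H]
  obtain ⟨h0, hord, hcent⟩ := C.eleven
  have hsub : ∀ y, Commute y k → y ∈ Subgroup.zpowers k := by
    haveI : Fact (Nat.Prime 11) := ⟨by norm_num⟩
    have hfac : (Nat.card M).factorization 11 = 1 := by
      rw [C.card, CfsgLib.CosetEnum.Suz.factorization_order]
    let P : Sylow 11 M := Sylow.ofCard (Subgroup.zpowers h0) (by rw [Nat.card_zpowers, hord, hfac, pow_one])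
    let R : Sylow 11 M := Sylow.ofCard (Subgroup.zpowers k) (by rw [Nat.card_zpowers, hk11, hfac, pow_one])
    obtain ⟨d, hd⟩ := MulAction.exists_smul_eq M P R
    intro y hy
    have hk' : k ∈ (R : Subgroup M) := Subgroup.mem_zpowers k
    rw [← hd] at hk'
    obtain ⟨p, hp, hpk⟩ := hk'
    have hpk' : d * p * d⁻¹ = k := hpk
    have hp' : p ∈ Subgroup.zpowers h0 := hp
    have hne : p ≠ 1 := fun e => by
      rw [e, mul_one, mul_inv_cancel] at hpk'
      rw [← hpk', orderOf_one] at hk11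
      exact absurd hk11 (by norm_num)
    have htop : Subgroup.zpowers p = Subgroup.zpowers h0 := by
      refine Subgroup.eq_of_le_of_card_ge (Subgroup.zpowers_le.2 hp') ?_
      rw [Nat.card_zpowers, Nat.card_zpowers, hord]
      have hdvd : orderOf p ∣ 11 := hord ▸ orderOf_dvd_of_mem_zpowers hp'
      rcases (Nat.dvd_prime (by norm_num)).1 hdvd with e | e
      · exact absurd (orderOf_eq_one_iff.1 e) hne
      · exact e.ge
    have hcp : Commute (d⁻¹ * y * d) p := by
      rw [← hpk'] at hy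
      show d⁻¹ * y * d * p = p * (d⁻¹ * y * d)
      calc d⁻¹ * y * d * p = d⁻¹ * (y * (d * p * d⁻¹)) * d := by group
        _ = d⁻¹ * ((d * p * d⁻¹) * y) * d := by rw [hy.eq]
        _ = p * (d⁻¹ * y * d) := by group
    have hh0 : h0 ∈ Subgroup.zpowers p := htop ▸ Subgroup.mem_zpowers h0
    obtain ⟨m, hm⟩ := Subgroup.mem_zpowers_iff.1 hh0
    have hy0 := hcent _ (hm ▸ hcp.zpow_right m)
    rw [← htop] at hy0
    obtain ⟨m', hm'⟩ := Subgroup.mem_zpowers_iff.1 hy0
    refine Subgroup.mem_zpowers_iff.2 ⟨m', ?_⟩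
    rw [← hpk', conj_zpow, hm']
    group
  have hc : g * k * g⁻¹ * k⁻¹ ∈ A0 := by
    rw [← C.centralizer_A0, Subgroup.mem_centralizer_iff]
    intro a ha
    have hb : k⁻¹ * a * k ∈ A0 := (Subgroup.mem_normalizer_iff''.1 hkN a).1 ha
    have h1 := h _ (A0.inv_mem ha)
    rw [inv_inv] at h1
    have key : g * k * g⁻¹ * k⁻¹ * a * (g * k * g⁻¹ * k⁻¹)⁻¹ = a := by
      calc g * k * g⁻¹ * k⁻¹ * a * (g * k * g⁻¹ * k⁻¹)⁻¹
          = g * (k * (g⁻¹ * (k⁻¹ * a * k) * g) * k⁻¹) * g⁻¹ := by group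
        _ = g * (k * (k⁻¹ * a * k)⁻¹ * k⁻¹) * g⁻¹ := by
          have h2 := h _ (A0.inv_mem hb)
          rw [inv_inv] at h2
          conv_lhs => rw [← h2]
          group
        _ = g * a⁻¹ * g⁻¹ := by group
        _ = a := h1
    exact (mul_inv_eq_iff_eq_mul.1 key).symm
  let ρ : A0 → A0 := fun b => ⟨(b : M) * k * (b : M)⁻¹ * k⁻¹, by
    rw [mul_assoc (b : M) k, mul_assoc (b : M)]
    exact mul_mem b.2 (mem_iff_mem_map hkN (inv_mem b.2))⟩
  have hρ : Function.Surjective ρ := by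
    refine Finite.injective_iff_surjective.1 fun b c e => Subtype.ext ?_
    have e' : (b : M) * k * (b : M)⁻¹ = (c : M) * k * (c : M)⁻¹ :=
      mul_right_cancel (congrArg Subtype.val e)
    have hcomm : Commute ((c : M)⁻¹ * b) k := by
      show (c : M)⁻¹ * b * k = k * ((c : M)⁻¹ * b)
      calc (c : M)⁻¹ * b * k = (c : M)⁻¹ * ((b : M) * k * (b : M)⁻¹) * b := by group
        _ = (c : M)⁻¹ * ((c : M) * k * (c : M)⁻¹) * b := by rw [e']
        _ = k * ((c : M)⁻¹ * b) := by group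
    have hd3 : orderOf ((c : M)⁻¹ * b) ∣ 3 ^ 5 := by
      rw [← C.card_A0]
      exact Subgroup.orderOf_dvd_natCard _ (mul_mem (inv_mem c.2) b.2)
    have hd11 : orderOf ((c : M)⁻¹ * b) ∣ 11 := hk11 ▸ orderOf_dvd_of_mem_zpowers (hsub _ hcomm)
    have := orderOf_eq_one_iff.1 (Nat.dvd_one.1
      ((Nat.dvd_gcd hd3 hd11).trans (by norm_num : Nat.gcd (3 ^ 5) 11 ∣ 1)))
    exact (inv_mul_eq_one.1 this).symm
  obtain ⟨b, hb⟩ := hρ ⟨_, hc⟩
  have hb' : (b : M) * k * (b : M)⁻¹ = g * k * g⁻¹ := mul_right_cancel (congrArg Subtype.val hb)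
  obtain ⟨g', hg'⟩ : ∃ g', g' = (b : M)⁻¹ * g := ⟨_, rfl⟩
  have hcomm : Commute g' k := by
    subst hg'
    show (b : M)⁻¹ * g * k = k * ((b : M)⁻¹ * g)
    calc (b : M)⁻¹ * g * k = (b : M)⁻¹ * (g * k * g⁻¹) * g := by group
      _ = (b : M)⁻¹ * ((b : M) * k * (b : M)⁻¹) * g := by rw [hb']
      _ = k * ((b : M)⁻¹ * g) := by group
  have hinv : ∀ a ∈ A0, g' * a * g'⁻¹ = a⁻¹ := by
    intro a ha
    subst hg'
    haveI := C.A0_comm
    have hc2 : (b : M) * a⁻¹ = a⁻¹ * b :=
      Subgroup.mem_centralizer_iff.1 (Subgroup.le_centralizer A0 (inv_mem ha)) _ b.2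
    calc (b : M)⁻¹ * g * a * ((b : M)⁻¹ * g)⁻¹ = (b : M)⁻¹ * (g * a * g⁻¹) * b := by group
      _ = (b : M)⁻¹ * (a⁻¹ * b) := by rw [h a ha, mul_assoc]
      _ = a⁻¹ := by rw [← hc2, inv_mul_cancel_left]
  have hpow : ∀ m : ℕ, ∀ a ∈ A0, g' ^ (2 * m + 1) * a * (g' ^ (2 * m + 1))⁻¹ = a⁻¹ := by
    intro m
    induction m with
    | zero => simpa using hinv
    | succ m ih =>
      intro a ha
      have h2 : g' * (g' * a * g'⁻¹) * g'⁻¹ = a := by
        rw [hinv a ha, hinv _ (inv_mem ha), inv_inv]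
      calc g' ^ (2 * (m + 1) + 1) * a * (g' ^ (2 * (m + 1) + 1))⁻¹
          = g' ^ (2 * m + 1) * (g' * (g' * a * g'⁻¹) * g'⁻¹) * (g' ^ (2 * m + 1))⁻¹ := by
            rw [show 2 * (m + 1) + 1 = 2 * m + 1 + 1 + 1 by ring, pow_succ, pow_succ]; group
        _ = a⁻¹ := by rw [h2, ih a ha]
  have hone : g' ^ 11 = 1 := orderOf_dvd_iff_pow_eq_one.1 (hk11 ▸ orderOf_dvd_of_mem_zpowers (hsub _ hcomm))
  have h1 := hpow 5 x0 (mem_gen (by decide))
  rw [show 2 * 5 + 1 = 11 by norm_num, hone] at h1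
  simp only [one_mul, inv_one, mul_one] at h1
  have h3 := C.x0_cube
  rw [pow_succ, pow_two, mul_eq_one_iff_eq_inv.2 h1, one_mul] at h3
  exact C.invol_facts.2.2.2.2.2 h3

end Ctx

end

end CfsgLib.SuzThree
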